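import Groth.Prelude.Def_HensSch
import Groth.Agent.Hensel.HenselizationProps

/-! Rings of sections of affine henselian spectra. -/

set_option autoImplicit false
universe u

namespace Groth.Agent.HensSch7

variable {A : Type u} [CommRing A] {I : Ideal A} {f : A} {B : Type u} [CommRing B] {φ : A →+* B}

/-- Every element of a henselisation is, modulo the ideal, a fraction. -/
theorem exists_decomp (h : HensSch.IsHensAway A I f B φ) (b : B) :
    ∃ (a : A) (k : ℕ), φ f ^ k * b - φ a ∈ I.map φ := by
  let L := Localization.Away f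
  let : Algebra L B := (IsLocalization.Away.lift (S := L) f h.1).toAlgebra
  have hcomp : (algebraMap L B).comp (algebraMap A L) = φ := IsLocalization.Away.lift_comp f h.1
  have hpair : Hens2.IsPairHenselization L (I.map (algebraMap A L)) B := by
    refine ⟨?_, fun C _ J θ hC hθ => ?_⟩
    · rw [Ideal.map_map, hcomp]; exact h.2.1
    · rw [Ideal.map_map] at hθ
      obtain ⟨g, hg, huniq⟩ := h.2.2 C J (θ.comp (algebraMap A L)) hC hθ
        ((IsLocalization.Away.algebraMap_isUnit (S := L) f).map θ)
      refine ⟨g, IsLocalization.ringHom_ext (Submonoid.powers f) ?_, fun g' hg' => huniq g' ?_⟩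
      · rw [RingHom.comp_assoc, hcomp, hg]
      · simp only at hg' ⊢
        rw [← hg', RingHom.comp_assoc, hcomp]
  obtain ⟨l, hl⟩ := Hensel.exists_sub_mem_of_isPairHenselization _ hpair b
  obtain ⟨⟨a, ⟨_, k, rfl⟩⟩, hla⟩ := IsLocalization.surj (Submonoid.powers f) l
  rw [Ideal.map_map, hcomp] at hl
  refine ⟨a, k, ?_⟩
  have he : φ a = algebraMap L B l * φ f ^ k := by
    rw [← hcomp, RingHom.comp_apply, ← hla, map_mul, map_pow, map_pow]
    rfl
  rw [he, show φ f ^ k * b - algebraMap L B l * φ f ^ k = φ f ^ k * (b - algebraMap L B l) by ring]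
  exact Ideal.mul_mem_left _ _ hl

end Groth.Agent.HensSch7
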