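import Groth.Agent.HensSch7.Sec

/-! Morphisms into a henselisation of a locally ringed space along a subset. -/

set_option autoImplicit false
universe u

open CategoryTheory Opposite TopologicalSpace AlgebraicGeometry Topology

namespace Groth.Agent.HensSch7

variable {X Xh Z : LocallyRingedSpace.{u}} (ι : Xh ⟶ X) (Y : Set X)

/-- The sections of `Xh` over `U` form the henselisation of the sections of `X` along `Y`. -/
structure IsGoodOpen (U : Opens X) : Prop where
  lift : ∀ (C : Type u) [CommRing C] (J : Ideal C) (θ : Sec X U →+* C), HenselianRing C J → (van X U Y).map θ ≤ J →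
    ∃! h : Sec Xh ((Opens.map ι.base).obj U) →+* C, h.comp (app ι U) = θ
  decomp : ∀ t : Sec Xh ((Opens.map ι.base).obj U), ∃ r : Sec X U, t - app ι U r ∈ (van X U Y).map (app ι U)

/-- An open whose sections are henselian along the vanishing ideal. -/
def IsHensOpen (W : Opens Z) : Prop := HenselianRing (Sec Z W) (van Z W Set.univ)

variable {ι Y} (hemb : IsEmbedding ι.base) (hι : Set.range ι.base ⊆ Y)
  (hgood : ∀ y ∈ Y, ∀ O : Opens X, y ∈ O → ∃ U, IsGoodOpen ι Y U ∧ y ∈ U ∧ U ≤ O)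
  (hZ : ∀ (z : Z) (O : Opens Z), z ∈ O → ∃ W, IsHensOpen W ∧ z ∈ W ∧ W ≤ O)
  (g : Z ⟶ X) (hg : Set.range g.base ⊆ Y)

include hg in
theorem existsUnique_lift {U : Opens X} (hU : IsGoodOpen ι Y U) {W : Opens Z} (hW : IsHensOpen W)
    (h : W ≤ (Opens.map g.base).obj U) :
    ∃! f : Sec Xh ((Opens.map ι.base).obj U) →+* Sec Z W, f.comp (app ι U) = appLE g U W h :=
  hU.lift _ _ _ hW (map_appLE_van g hg h)

/-- The lift on a pair of small opens. -/
noncomputable def liftMap {U : Opens X} (hU : IsGoodOpen ι Y U) {W : Opens Z} (hW : IsHensOpen W)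
    (h : W ≤ (Opens.map g.base).obj U) : Sec Xh ((Opens.map ι.base).obj U) →+* Sec Z W :=
  (existsUnique_lift g hg hU hW h).exists.choose

theorem liftMap_spec {U : Opens X} (hU : IsGoodOpen ι Y U) {W : Opens Z} (hW : IsHensOpen W)
    (h : W ≤ (Opens.map g.base).obj U) : (liftMap g hg hU hW h).comp (app ι U) = appLE g U W h :=
  (existsUnique_lift g hg hU hW h).exists.choose_spec

theorem liftMap_res {U U' : Opens X} (hU : IsGoodOpen ι Y U) (hU' : IsGoodOpen ι Y U') (hUU' : U' ≤ U)
    {W W' : Opens Z} (hW : IsHensOpen W) (hW' : IsHensOpen W') (hWW' : W' ≤ W)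
    (h : W ≤ (Opens.map g.base).obj U) (h' : W' ≤ (Opens.map g.base).obj U')
    (t : Sec Xh ((Opens.map ι.base).obj U)) :
    res hWW' (liftMap g hg hU hW h t) = liftMap g hg hU' hW' h'
      (res (show (Opens.map ι.base).obj U' ≤ (Opens.map ι.base).obj U from fun _ hx => hUU' hx) t) := by
  refine DFunLike.congr_fun (((existsUnique_lift g hg hU hW' (fun _ hx => h (hWW' hx))).unique
    (y₁ := (res hWW').comp (liftMap g hg hU hW h))
    (y₂ := (liftMap g hg hU' hW' h').comp
      (res (show (Opens.map ι.base).obj U' ≤ (Opens.map ι.base).obj U from fun _ hx => hUU' hx))) ?_ ?_)) t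
  · rw [RingHom.comp_assoc, liftMap_spec]
    exact RingHom.ext fun s => res_appLE g h hWW' s
  · refine RingHom.ext fun s => ?_
    show liftMap g hg hU' hW' h' (res _ (app ι U s)) = _
    rw [← app_res ι hUU', ← RingHom.comp_apply (liftMap g hg hU' hW' h'), liftMap_spec, appLE_res]

variable (G : C(Z, Xh)) (hG : ∀ z, ι.base (G z) = g.base z)

/-- Pairs of small opens below an open of `Xh`. -/
structure Idx (V : Opens Xh) where
  U : Opens X
  W : Opens Z
  hU : IsGoodOpen ι Y U
  hW : IsHensOpen W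
  hWU : W ≤ (Opens.map g.base).obj U
  hUV : (Opens.map ι.base).obj U ≤ V

include hG in
theorem Idx.le_preimage {V : Opens Xh} (i : Idx (ι := ι) (Y := Y) g V) : i.W ≤ Opens.comap G V := fun z hz =>
  i.hUV (show ι.base (G z) ∈ i.U by rw [hG]; exact i.hWU hz)

include hemb hgood hZ hG hg in
theorem exists_idx {V : Opens Xh} {z : Z} (hz : G z ∈ V) (O : Opens Z) (hzO : z ∈ O) (U₀ : Opens X)
    (hzU : g.base z ∈ U₀) :
    ∃ i : Idx (ι := ι) (Y := Y) g V, z ∈ i.W ∧ i.W ≤ O ∧ i.U ≤ U₀ := by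
  obtain ⟨O', hO'o, hO'⟩ := hemb.isInducing.isOpen_iff.mp V.isOpen
  obtain ⟨U, hU, hzU', hle⟩ := hgood (g.base z) (hg ⟨z, rfl⟩) (⟨O', hO'o⟩ ⊓ U₀) ⟨by
    show g.base z ∈ O'
    rw [← hG]
    exact (Set.ext_iff.mp hO' (G z)).mpr hz, hzU⟩
  obtain ⟨W, hW, hzW, hWle⟩ := hZ z (O ⊓ (Opens.map g.base).obj U) ⟨hzO, hzU'⟩
  exact ⟨⟨U, W, hU, hW, fun _ hx => (hWle hx).2, fun x hx => (Set.ext_iff.mp hO' x).mp (hle hx).1⟩, hzW,
    fun _ hx => (hWle hx).1, fun _ hx => (hle hx).2⟩

include hemb hgood hZ hG hg in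
theorem existsUnique_glue (V : Opens Xh) (t : Sec Xh V) :
    ∃! s : Sec Z (Opens.comap G V), ∀ i : Idx (ι := ι) (Y := Y) g V,
      res (i.le_preimage g G hG) s = liftMap g hg i.hU i.hW i.hWU (res i.hUV t) := by
  have hcomp : TopCat.Presheaf.IsCompatible Z.sheaf.obj (fun i : Idx (ι := ι) (Y := Y) g V => i.W)
      (fun i => liftMap g hg i.hU i.hW i.hWU (res i.hUV t)) := by
    intro i j
    refine sec_ext _ _ fun z hz => ?_
    obtain ⟨k, hzk, hkW, hkU⟩ := exists_idx hemb hgood hZ g hg G hG (V := V) (z := z)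
      (i.le_preimage g G hG hz.1) (i.W ⊓ j.W) hz (i.U ⊓ j.U) ⟨i.hWU hz.1, j.hWU hz.2⟩
    refine ⟨k.W, hkW, hzk, ?_⟩
    show res hkW (res inf_le_left _) = res hkW (res inf_le_right _)
    rw [res_res, res_res, liftMap_res g hg i.hU k.hU (fun _ hx => (hkU hx).1) i.hW k.hW _ i.hWU k.hWU,
      liftMap_res g hg j.hU k.hU (fun _ hx => (hkU hx).2) j.hW k.hW _ j.hWU k.hWU, res_res, res_res]
  obtain ⟨s, hs, huniq⟩ := Z.sheaf.existsUnique_gluing' (fun i : Idx (ι := ι) (Y := Y) g V => i.W) (Opens.comap G V)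
    (fun i => homOfLE (i.le_preimage g G hG)) (fun z hz => by
      obtain ⟨k, hzk, -⟩ := exists_idx hemb hgood hZ g hg G hG (V := V) (z := z) hz ⊤ trivial ⊤ trivial
      exact Opens.mem_iSup.mpr ⟨k, hzk⟩)
    (fun i => liftMap g hg i.hU i.hW i.hWU (res i.hUV t)) hcomp
  exact ⟨s, hs, huniq⟩

/-- The glued map on sections. -/
noncomputable def glueMap (V : Opens Xh) : Sec Xh V →+* Sec Z (Opens.comap G V) where
  toFun t := (existsUnique_glue hemb hgood hZ g hg G hG V t).exists.choose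
  map_one' := (existsUnique_glue hemb hgood hZ g hg G hG V 1).unique
    (existsUnique_glue hemb hgood hZ g hg G hG V 1).exists.choose_spec (fun i => by simp)
  map_zero' := (existsUnique_glue hemb hgood hZ g hg G hG V 0).unique
    (existsUnique_glue hemb hgood hZ g hg G hG V 0).exists.choose_spec (fun i => by simp)
  map_mul' a b := (existsUnique_glue hemb hgood hZ g hg G hG V (a * b)).unique
    (existsUnique_glue hemb hgood hZ g hg G hG V (a * b)).exists.choose_spec (fun i => by
      rw [map_mul, map_mul, map_mul, (existsUnique_glue hemb hgood hZ g hg G hG V a).exists.choose_spec i,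
        (existsUnique_glue hemb hgood hZ g hg G hG V b).exists.choose_spec i])
  map_add' a b := (existsUnique_glue hemb hgood hZ g hg G hG V (a + b)).unique
    (existsUnique_glue hemb hgood hZ g hg G hG V (a + b)).exists.choose_spec (fun i => by
      rw [map_add, map_add, map_add, (existsUnique_glue hemb hgood hZ g hg G hG V a).exists.choose_spec i,
        (existsUnique_glue hemb hgood hZ g hg G hG V b).exists.choose_spec i])

theorem res_glueMap (V : Opens Xh) (t : Sec Xh V) (i : Idx (ι := ι) (Y := Y) g V) :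
    res (i.le_preimage g G hG) (glueMap hemb hgood hZ g hg G hG V t) =
      liftMap g hg i.hU i.hW i.hWU (res i.hUV t) :=
  (existsUnique_glue hemb hgood hZ g hg G hG V t).exists.choose_spec i

/-- The lifted morphism of presheafed spaces. -/
noncomputable def lifted : Z.toPresheafedSpace.Hom Xh.toPresheafedSpace where
  base := TopCat.ofHom G
  c :=
    { app := fun V => CommRingCat.ofHom (glueMap hemb hgood hZ g hg G hG V.unop)
      naturality := fun V V' k => by
        refine CommRingCat.hom_ext (RingHom.ext fun t => ?_)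
        show glueMap hemb hgood hZ g hg G hG V'.unop (res k.unop.le t) =
          res (show Opens.comap G V'.unop ≤ Opens.comap G V.unop from fun _ hx => k.unop.le hx)
            (glueMap hemb hgood hZ g hg G hG V.unop t)
        refine sec_ext _ _ fun z hz => ?_
        obtain ⟨i, hzi, -, -⟩ := exists_idx hemb hgood hZ g hg G hG hz ⊤ trivial ⊤ trivial
        refine ⟨i.W, i.le_preimage g G hG, hzi, ?_⟩
        rw [res_glueMap, res_res, res_res]
        exact (res_glueMap hemb hgood hZ g hg G hG V.unop t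
          ⟨i.U, i.W, i.hU, i.hW, i.hWU, i.hUV.trans k.unop.le⟩).symm }

include hι hG in
theorem not_isUnit_stalk (V : Opens Xh) (z : Z) (hzV : G z ∈ V) (t : Sec Xh V)
    (i : Idx (ι := ι) (Y := Y) g V) (hzi : z ∈ i.W) (hx : G z ∈ (Opens.map ι.base).obj i.U)
    (ht : ¬ IsUnit (Xh.presheaf.germ V (G z) hzV t)) :
    ¬ IsUnit (Z.presheaf.germ i.W z hzi (liftMap g hg i.hU i.hW i.hWU (res i.hUV t))) := by
  obtain ⟨r, hr⟩ := i.hU.decomp (res i.hUV t)
  have hrx : ¬ IsUnit (Xh.presheaf.germ _ (G z) hx (res i.hUV t - app ι i.U r)) :=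
    mem_van.mp (map_appLE_van ι hι (le_refl ((Opens.map ι.base).obj i.U))
      (by rwa [show appLE ι i.U _ (le_refl _) = app ι i.U from RingHom.ext fun _ => res_self _ _])) _ hx trivial
  have hrz : ¬ IsUnit (Z.presheaf.germ i.W z hzi (liftMap g hg i.hU i.hW i.hWU (res i.hUV t - app ι i.U r))) := by
    refine (mem_van (S := Set.univ)).mp ?_ _ hzi trivial
    have h := Ideal.mem_map_of_mem (liftMap g hg i.hU i.hW i.hWU) hr
    rw [Ideal.map_map, liftMap_spec] at h
    exact map_appLE_van g hg i.hWU h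
  have hnt : ¬ IsUnit (Xh.presheaf.germ _ (G z) hx (res i.hUV t)) := fun h =>
    ht ((isUnit_germ_res i.hUV hx t).mp h)
  have hnr : ¬ IsUnit (X.presheaf.germ i.U (ι.base (G z)) hx r) := fun h => by
    rw [← isUnit_germ_app ι hx] at h
    refine hnt ?_
    rw [← sub_add_cancel (res i.hUV t) (app ι i.U r), map_add]
    by_contra hu
    rw [← mem_nonunits_iff, ← IsLocalRing.mem_maximalIdeal] at hu hrx
    exact (mem_nonunits_iff.mp ((IsLocalRing.mem_maximalIdeal _).mp (by simpa using sub_mem hu hrx))) h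
  have key : ∀ {x y : X}, x = y → ∀ (hx : x ∈ i.U) (hy : y ∈ i.U),
      IsUnit (X.presheaf.germ i.U x hx r) → IsUnit (X.presheaf.germ i.U y hy r) := by
    rintro x _ rfl _ _ h; exact h
  intro hu
  rw [← sub_add_cancel (res i.hUV t) (app ι i.U r), map_add, map_add] at hu
  rcases IsLocalRing.isUnit_or_isUnit_of_isUnit_add hu with h | h
  · exact hrz h
  · rw [← RingHom.comp_apply (liftMap g hg i.hU i.hW i.hWU), liftMap_spec, isUnit_germ_appLE] at h
    exact hnr (key (hG z).symm _ _ h)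

/-- The lifted morphism of locally ringed spaces. -/
noncomputable def liftedLRS (hι : Set.range ι.base ⊆ Y) : Z ⟶ Xh where
  toHom := lifted hemb hgood hZ g hg G hG
  prop z := by
    refine ⟨fun a ha => ?_⟩
    obtain ⟨V, hzV, t, rfl⟩ := Xh.presheaf.exists_germ_eq a
    obtain ⟨i, hzi, -, -⟩ := exists_idx hemb hgood hZ g hg G hG (z := z) hzV ⊤ trivial ⊤ trivial
    by_contra hna
    refine not_isUnit_stalk hι g hg G hG V z hzV t i hzi
      (show ι.base (G z) ∈ i.U by rw [hG]; exact i.hWU hzi) hna ?_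
    rw [← res_glueMap hemb hgood hZ g hg G hG V t i, isUnit_germ_res]
    rw [show (Z.presheaf.germ (Opens.comap G V) z (i.le_preimage g G hG hzi))
      (glueMap hemb hgood hZ g hg G hG V t) =
        (lifted hemb hgood hZ g hg G hG).stalkMap z (Xh.presheaf.germ V (G z) hzV t) from
      (PresheafedSpace.stalkMap_germ_apply (lifted hemb hgood hZ g hg G hG) V z hzV t).symm]
    exact ha

/-- Morphisms agreeing on small opens are equal. -/
theorem hom_ext_local {f₁ f₂ : Z ⟶ X} (hb : f₁.base = f₂.base)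
    (h : ∀ (U : Opens X) (z : Z), f₁.base z ∈ U → ∃ (W : Opens Z) (h₁ : W ≤ (Opens.map f₁.base).obj U)
      (h₂ : W ≤ (Opens.map f₂.base).obj U), z ∈ W ∧ ∀ s, appLE f₁ U W h₁ s = appLE f₂ U W h₂ s) : f₁ = f₂ := by
  obtain ⟨⟨b₁, c₁⟩, p₁⟩ := f₁
  obtain ⟨⟨b₂, c₂⟩, p₂⟩ := f₂
  change b₁ = b₂ at hb
  subst hb
  have hc : c₁ = c₂ := by
    refine NatTrans.ext (funext fun U => CommRingCat.hom_ext (RingHom.ext fun s => sec_ext _ _ fun z hz => ?_))
    obtain ⟨W, h₁, _, hzW, hs⟩ := h U.unop z hz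
    exact ⟨W, h₁, hzW, hs s⟩
  subst hc; rfl

theorem appLE_eq_liftMap (g₁ : Z ⟶ Xh) (h₁ : g₁ ≫ ι = g) {V : Opens Xh} (i : Idx (ι := ι) (Y := Y) g V)
    (hle : i.W ≤ (Opens.map g₁.base).obj V) (t : Sec Xh V) :
    appLE g₁ V i.W hle t = liftMap g hg i.hU i.hW i.hWU (res i.hUV t) := by
  subst h₁
  have hle' : i.W ≤ (Opens.map g₁.base).obj ((Opens.map ι.base).obj i.U) := i.hWU
  rw [← (existsUnique_lift (g₁ ≫ ι) hg i.hU i.hW i.hWU).unique
    (y₁ := appLE g₁ ((Opens.map ι.base).obj i.U) i.W hle')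
    (RingHom.ext fun s => rfl) (liftMap_spec _ hg i.hU i.hW i.hWU), appLE_res]

include hemb hgood hZ hι hg in
/-- The universal property. -/
theorem existsUnique_comp_eq (hsurj : Y ⊆ Set.range ι.base) : ∃! g' : Z ⟶ Xh, g' ≫ ι = g := by
  choose Gf hGf using fun z : Z => (hsurj (hg ⟨z, rfl⟩) : g.base z ∈ Set.range ι.base)
  let G : C(Z, Xh) := ⟨Gf, hemb.continuous_iff.mpr (by
    rw [show ι.base ∘ Gf = g.base from funext hGf]; exact g.base.hom.continuous)⟩
  have hG : ∀ z, ι.base (G z) = g.base z := hGf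
  have happ : ∀ (V : Opens Xh) (i : Idx (ι := ι) (Y := Y) g V) (t : Sec Xh V),
      appLE (liftedLRS hemb hgood hZ g hg G hG hι) V i.W (i.le_preimage g G hG) t =
        liftMap g hg i.hU i.hW i.hWU (res i.hUV t) :=
    fun V i t => res_glueMap hemb hgood hZ g hg G hG V t i
  refine ⟨liftedLRS hemb hgood hZ g hg G hG hι, ?_, fun g₁ h₁ => ?_⟩
  · have hb : (liftedLRS hemb hgood hZ g hg G hG hι ≫ ι).base = g.base :=
      TopCat.hom_ext (ContinuousMap.ext fun z => hG z)
    refine hom_ext_local hb fun U z hz => ?_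
    have hz' : G z ∈ (Opens.map ι.base).obj U := hz
    obtain ⟨i, hzi, -, hiU⟩ := exists_idx hemb hgood hZ g hg G hG hz' ⊤ trivial U
      (show g.base z ∈ U by rw [← hG]; exact hz)
    refine ⟨i.W, fun w hw => show ι.base (G w) ∈ U by rw [hG]; exact hiU (i.hWU hw),
      fun w hw => hiU (i.hWU hw), hzi, fun s => ?_⟩
    show appLE (liftedLRS hemb hgood hZ g hg G hG hι) ((Opens.map ι.base).obj U) i.W (i.le_preimage g G hG)
      (app ι U s) = _
    rw [happ, ← appLE_res g hiU i.hWU, ← liftMap_spec g hg i.hU i.hW i.hWU, RingHom.comp_apply, app_res ι hiU]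
  · have hb : g₁.base = (liftedLRS hemb hgood hZ g hg G hG hι).base :=
      TopCat.hom_ext (ContinuousMap.ext fun z => hemb.injective ((congr($(h₁).base z)).trans (hG z).symm))
    refine hom_ext_local hb fun V z hz => ?_
    have hz' : G z ∈ V := by
      have := congr($hb z)
      exact this ▸ hz
    obtain ⟨i, hzi, -, -⟩ := exists_idx hemb hgood hZ g hg G hG hz' ⊤ trivial ⊤ trivial
    have hle : i.W ≤ (Opens.map g₁.base).obj V := fun w hw => by
      show g₁.base w ∈ V
      rw [hb]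
      exact i.le_preimage g G hG hw
    exact ⟨i.W, hle, i.le_preimage g G hG, hzi, fun t =>
      (appLE_eq_liftMap g hg g₁ h₁ i hle t).trans (happ V i t).symm⟩

end Groth.Agent.HensSch7
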