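import Groth.Agent.HensSch7.Sec
import Groth.Agent.Hensel.HenselizationProps

/-! Sections along open immersions. -/

set_option autoImplicit false
universe u

open CategoryTheory Opposite TopologicalSpace AlgebraicGeometry

namespace Groth.Agent.HensSch7

variable {U Z : LocallyRingedSpace.{u}} (i : U ⟶ Z) [LocallyRingedSpace.IsOpenImmersion i]

theorem bijective_appLE {W : Opens Z} {W₀ : Opens U} (h : W₀ ≤ (Opens.map i.base).obj W)
    (h' : ∀ x, i.base x ∈ W → x ∈ W₀) (hW : ∀ z ∈ W, z ∈ Set.range i.base) :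
    Function.Bijective (appLE i W W₀ h) := by
  obtain rfl : W₀ = (Opens.map i.base).obj W := le_antisymm h h'
  have : IsIso (i.c.app (op W)) := by
    refine PresheafedSpace.IsOpenImmersion.c_iso' i.toHom ((Opens.map i.base).obj W) (Opens.ext ?_)
    exact ((Set.image_preimage_eq_iff (f := i.base)).mpr hW).symm
  have hb : Function.Bijective (app i W) := ConcreteCategory.bijective_of_isIso (i.c.app (op W))
  convert hb using 1
  exact funext fun s => res_self _ _

theorem comap_van {W : Opens Z} {W₀ : Opens U} (h : W₀ ≤ (Opens.map i.base).obj W)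
    (hW : ∀ z ∈ W, ∃ x ∈ W₀, i.base x = z) :
    (van U W₀ Set.univ).comap (appLE i W W₀ h) = van Z W Set.univ := by
  ext s
  rw [Ideal.mem_comap, mem_van, mem_van]
  refine ⟨fun hs z hz _ hu => ?_, fun hs x hx _ hu => hs _ (h hx) trivial ((isUnit_germ_appLE i h hx s).mp hu)⟩
  obtain ⟨x, hx, rfl⟩ := hW z hz
  exact hs x hx trivial ((isUnit_germ_appLE i h hx s).mpr hu)

theorem henselianRing_van {W : Opens Z} {W₀ : Opens U} (h : W₀ ≤ (Opens.map i.base).obj W)
    (h' : ∀ x, i.base x ∈ W → x ∈ W₀) (hW : ∀ z ∈ W, ∃ x ∈ W₀, i.base x = z)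
    (hh : HenselianRing (Sec U W₀) (van U W₀ Set.univ)) : HenselianRing (Sec Z W) (van Z W Set.univ) := by
  have hb := bijective_appLE i h h' fun z hz => let ⟨x, _, hx⟩ := hW z hz; ⟨x, hx⟩
  let e : Sec Z W ≃+* Sec U W₀ := RingEquiv.ofBijective _ hb
  have := hh
  have h2 := Hensel.henselianRing_of_ringEquiv e.symm (van U W₀ Set.univ)
  rwa [show (van U W₀ Set.univ).map (e.symm : Sec U W₀ →+* Sec Z W) = van Z W Set.univ from
    (Ideal.map_comap_of_equiv e.symm).trans (comap_van i h hW)] at h2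

end Groth.Agent.HensSch7
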