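import Groth.Agent.HensSch7.Sec
import Groth.Agent.HensSch7.Away
import Groth.Agent.Hensel.PairBasic

/-! Sections and points of affine henselian spectra. -/

set_option autoImplicit false
universe u

open CategoryTheory Opposite TopologicalSpace AlgebraicGeometry Topology

namespace Groth.Agent.HensSch7

variable {A : Type u} [CommRing A] {V : LocallyRingedSpace.{u}} (π : V ⟶ HensSch.specLRS A)

/-- The map from `A` to the sections over a distinguished open. -/
noncomputable abbrev sphMap (f : A) : A →+* Sec V (HensSch.dOpen π f) :=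
  HensSch.secMap π (PrimeSpectrum.basicOpen f)

theorem sphMap_eq (f a : A) : sphMap π f a = res (le_top : HensSch.dOpen π f ≤ (Opens.map π.base).obj ⊤)
    (app π ⊤ ((Scheme.ΓSpecIso (CommRingCat.of A)).inv a)) := rfl

theorem isUnit_germ_sphMap (f a : A) (x : V) (hx : x ∈ HensSch.dOpen π f) :
    IsUnit (V.presheaf.germ (HensSch.dOpen π f) x hx (sphMap π f a)) ↔
      a ∉ PrimeSpectrum.asIdeal (π.base x) := by
  rw [sphMap_eq]
  refine (isUnit_germ_res (U := (Opens.map π.base).obj ⊤) le_top hx _).trans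
    ((isUnit_germ_app π (U := ⊤) (x := x) trivial _).trans ?_)
  have h := SetLike.ext_iff.mp (AlgebraicGeometry.basicOpen_eq_of_affine (R := CommRingCat.of A) a) (π.base x)
  rw [Scheme.mem_basicOpen_top] at h
  exact h

variable {π} {I : Ideal A} (hV : HensSch.IsSph A I V π)

include hV

theorem le_asIdeal (x : V) : I ≤ PrimeSpectrum.asIdeal (π.base x) :=
  (PrimeSpectrum.mem_zeroLocus _ _).mp (hV.2.1 ▸ ⟨x, rfl⟩ : π.base x ∈ PrimeSpectrum.zeroLocus (I : Set A))

theorem map_le_van (f : A) : I.map (sphMap π f) ≤ van V (HensSch.dOpen π f) Set.univ :=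
  Ideal.map_le_iff_le_comap.mpr fun a ha => mem_van.mpr fun x hx _ h =>
    (isUnit_germ_sphMap π f a x hx).mp h (le_asIdeal hV x ha)

theorem van_eq_radical (f : A) : van V (HensSch.dOpen π f) Set.univ = (I.map (sphMap π f)).radical := by
  refine le_antisymm (fun s hs => ?_) fun s ⟨m, hm⟩ => mem_van.mpr fun x hx _ h =>
    mem_van.mp (map_le_van hV f hm) x hx trivial (by rw [map_pow]; exact h.pow m)
  obtain ⟨a, k, hk⟩ := exists_decomp (hV.2.2 f) s
  have hvan : sphMap π f a ∈ van V (HensSch.dOpen π f) Set.univ := by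
    have := sub_mem (Ideal.mul_mem_left _ (sphMap π f f ^ k) hs) (map_le_van hV f hk)
    rwa [sub_sub_cancel] at this
  have hrad : a * f ∈ I.radical := by
    rw [← PrimeSpectrum.vanishingIdeal_zeroLocus_eq_radical, PrimeSpectrum.mem_vanishingIdeal]
    intro p hp
    by_contra hn
    obtain ⟨x, rfl⟩ : p ∈ Set.range π.base := hV.2.1 ▸ hp
    have hx : x ∈ HensSch.dOpen π f := fun h => hn (Ideal.mul_mem_left _ _ h)
    exact mem_van.mp hvan x hx trivial ((isUnit_germ_sphMap π f a x hx).mpr fun h => hn (Ideal.mul_mem_right _ _ h))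
  have ha : sphMap π f a ∈ (I.map (sphMap π f)).radical := by
    have h := Ideal.map_radical_le (sphMap π f) (Ideal.mem_map_of_mem (sphMap π f) hrad)
    rw [map_mul] at h
    exact (Ideal.mul_unit_mem_iff_mem _ (hV.2.2 f).1).mp h
  have h := add_mem ha (Ideal.le_radical hk)
  rw [add_sub_cancel] at h
  exact (Ideal.unit_mul_mem_iff_mem _ ((hV.2.2 f).1.pow k)).mp h

theorem henselianRing_van_dOpen (f : A) :
    HenselianRing (Sec V (HensSch.dOpen π f)) (van V (HensSch.dOpen π f) Set.univ) := by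
  rw [van_eq_radical hV f]
  exact (Hensel.henselianRing_radical_iff _).mpr (hV.2.2 f).2.1

theorem exists_dOpen (x : V) (O : Opens V) (hx : x ∈ O) :
    ∃ f : A, x ∈ HensSch.dOpen π f ∧ HensSch.dOpen π f ≤ O := by
  obtain ⟨O', hO', hOO'⟩ := hV.1.isInducing.isOpen_iff.mp O.isOpen
  obtain ⟨_, ⟨f, rfl⟩, hxf, hf⟩ := PrimeSpectrum.isTopologicalBasis_basic_opens.exists_subset_of_mem_open
    (show π.base x ∈ O' from (Set.ext_iff.mp hOO' x).mpr hx) hO'
  exact ⟨f, hxf, fun y hy => (Set.ext_iff.mp hOO' y).mp (hf hy)⟩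

end Groth.Agent.HensSch7
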