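import Mathlib.AlgebraicGeometry.AffineScheme
import Groth.Agent.HensSch7.Sph
import Groth.Agent.HensSch7.Glue
import Groth.Agent.HensSch7.Immersion

/-! Small opens in henselian schemes and henselisations. -/

set_option autoImplicit false
universe u

open CategoryTheory Opposite TopologicalSpace AlgebraicGeometry Topology

namespace Groth.Agent.HensSch7

theorem exists_isHensOpen {Z : LocallyRingedSpace.{u}} (hZ : HensSch.IsHensScheme Z) (z : Z) (O : Opens Z)
    (hz : z ∈ O) : ∃ W, IsHensOpen W ∧ z ∈ W ∧ W ≤ O := by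
  obtain ⟨U, i, hi, ⟨x, rfl⟩, A, _, I, π, _, -, hU⟩ := hZ z
  obtain ⟨f, hxf, hle⟩ := exists_dOpen hU x ((Opens.map i.base).obj O) hz
  have hio : IsOpenEmbedding i.base := hi.base_open
  refine ⟨⟨i.base '' (HensSch.dOpen π f : Set U), hio.isOpenMap _ (HensSch.dOpen π f).isOpen⟩, ?_, ⟨x, hxf, rfl⟩, ?_⟩
  · exact henselianRing_van i (W₀ := HensSch.dOpen π f) (fun y hy => ⟨y, hy, rfl⟩)
      (fun y ⟨w, hw, hwy⟩ => hio.injective hwy ▸ hw) (fun y ⟨w, hw, hwy⟩ => ⟨w, hw, hwy⟩)
      (henselianRing_van_dOpen hU f)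
  · rintro _ ⟨w, hw, rfl⟩; exact hle hw

theorem exists_away_data (R : CommRingCat.{u}) (f : R) :
    ∃ (_ : Algebra R Γ(Spec R, PrimeSpectrum.basicOpen f)),
      IsLocalization.Away f Γ(Spec R, PrimeSpectrum.basicOpen f) ∧
      ∀ a, algebraMap R Γ(Spec R, PrimeSpectrum.basicOpen f) a =
        (Spec R).presheaf.map (homOfLE (le_top : PrimeSpectrum.basicOpen f ≤ ⊤)).op ((Scheme.ΓSpecIso R).inv a) :=
  ⟨inferInstance, inferInstance, fun _ => rfl⟩

variable {X : Scheme.{u}} {Y : Set X} {Xh : LocallyRingedSpace.{u}} {ι : Xh ⟶ X.toLocallyRingedSpace}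
  {A : Type u} [CommRing A] (j : Spec (CommRingCat.of A) ⟶ X) [IsOpenImmersion j]
  {V : LocallyRingedSpace.{u}} (v : V ⟶ Xh) [LocallyRingedSpace.IsOpenImmersion v] (π : V ⟶ HensSch.specLRS A)

/-- A distinguished chart open is good. -/
theorem isGoodOpen_of_chart (hr : Set.range v.base = ι.base ⁻¹' Set.range j.base) (hc : v ≫ ι = π ≫ j.toLRSHom)
    (hV : HensSch.IsSph A (PrimeSpectrum.vanishingIdeal (j.base ⁻¹' Y)) V π) (f : A)
    {U : Opens X.toLocallyRingedSpace} (hU : (U : Set X.toLocallyRingedSpace) = j.base '' (PrimeSpectrum.basicOpen f : Set (PrimeSpectrum A))) :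
    IsGoodOpen ι Y U := by
  let D : Opens (HensSch.specLRS A) := PrimeSpectrum.basicOpen f
  have hjinj : Function.Injective j.base := j.isOpenEmbedding.injective
  haveI : LocallyRingedSpace.IsOpenImmersion j.toLRSHom := ‹IsOpenImmersion j›
  have hDU : D ≤ (Opens.map j.toLRSHom.base).obj U := fun p hp => hU.ge ⟨p, hp, rfl⟩
  have hUD : ∀ p, j.toLRSHom.base p ∈ U → p ∈ D := fun p hp => by
    obtain ⟨q, hq, hqp⟩ := hU.le hp
    exact hjinj hqp ▸ hq
  have hUr : ∀ y ∈ U, y ∈ Set.range j.toLRSHom.base := fun y hy => by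
    obtain ⟨q, -, hqy⟩ := hU.le hy
    exact ⟨q, hqy⟩
  have hιv : ∀ w, ι.base (v.base w) = j.toLRSHom.base (π.base w) := fun w => congr($(hc).base w)
  have hWV : HensSch.dOpen π f ≤ (Opens.map v.base).obj ((Opens.map ι.base).obj U) := fun w hw => by
    show ι.base (v.base w) ∈ U
    rw [hιv]; exact hDU hw
  have hVW : ∀ w, v.base w ∈ (Opens.map ι.base).obj U → w ∈ HensSch.dOpen π f := fun w hw =>
    hUD _ (show j.toLRSHom.base (π.base w) ∈ U by rw [← hιv]; exact hw)
  have hVr : ∀ x ∈ (Opens.map ι.base).obj U, x ∈ Set.range v.base := fun x hx => hr.ge (hUr _ hx)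
  let β := appLE v ((Opens.map ι.base).obj U) (HensSch.dOpen π f) hWV
  let γ := appLE j.toLRSHom U D hDU
  have hβ : Function.Bijective β := bijective_appLE v hWV hVW hVr
  have hγ : Function.Bijective γ := bijective_appLE j.toLRSHom hDU hUD hUr
  let β' := RingEquiv.ofBijective β hβ
  let γ' := RingEquiv.ofBijective γ hγ
  obtain ⟨alg, hloc, hmap⟩ := exists_away_data (CommRingCat.of A) f
  letI : Algebra A (Sec (HensSch.specLRS A) D) := alg
  haveI : IsLocalization.Away f (Sec (HensSch.specLRS A) D) := hloc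
  let α : A →+* Sec (HensSch.specLRS A) D := algebraMap A _
  have hα : ∀ a, α a = res (le_top : D ≤ ⊤) ((Scheme.ΓSpecIso (CommRingCat.of A)).inv a) := hmap
  have hφ : ∀ a, sphMap π f a = app π D (α a) := fun a => by
    rw [hα, app_res]; rfl
  have hsq : ∀ s, β (app ι U s) = app π D (γ s) := fun s => by
    have h1 : β (app ι U s) = appLE (v ≫ ι) U (HensSch.dOpen π f) hWV s := rfl
    have h2 : app π D (γ s) = appLE (π ≫ j.toLRSHom) U (HensSch.dOpen π f) (fun w hw => hDU hw) s := by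
      show app π D (res hDU (app j.toLRSHom U s)) = _
      rw [app_res]; rfl
    rw [h1, h2]
    have : ∀ (g₁ g₂ : V ⟶ X.toLocallyRingedSpace) (_ : g₁ = g₂) (h₁) (h₂),
        appLE g₁ U (HensSch.dOpen π f) h₁ s = appLE g₂ U (HensSch.dOpen π f) h₂ s := by
      rintro g₁ _ rfl _ _; rfl
    exact this _ _ hc _ _
  let σ : A →+* Sec X.toLocallyRingedSpace U := (γ'.symm : Sec (HensSch.specLRS A) D →+* Sec X.toLocallyRingedSpace U).comp α
  have hσ : ∀ a, β (app ι U (σ a)) = sphMap π f a := fun a => by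
    rw [hsq, hφ]; congr 1; exact γ'.apply_symm_apply _
  have hσf : IsUnit (σ f) := (IsLocalization.Away.algebraMap_isUnit (S := Sec (HensSch.specLRS A) D) f).map γ'.symm
  have hI : (PrimeSpectrum.vanishingIdeal (j.base ⁻¹' Y)).map σ ≤ van X.toLocallyRingedSpace U Y :=
    Ideal.map_le_iff_le_comap.mpr fun a ha => mem_van.mpr fun y hy hyY hu => by
      obtain ⟨p, hp, rfl⟩ := hU.le hy
      have h1 : IsUnit ((HensSch.specLRS A).presheaf.germ D p hp (γ (σ a))) :=
        (isUnit_germ_appLE j.toLRSHom hDU hp (σ a)).mpr hu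
      rw [show γ (σ a) = α a from γ'.apply_symm_apply _, hα, isUnit_germ_res le_top hp] at h1
      have h2 := SetLike.ext_iff.mp (AlgebraicGeometry.basicOpen_eq_of_affine (R := CommRingCat.of A) a) p
      rw [Scheme.mem_basicOpen_top] at h2
      exact h2.mp h1 ((PrimeSpectrum.mem_vanishingIdeal _ a).mp ha p hyY)
  obtain ⟨hfu, -, hlift⟩ := hV.2.2 f
  refine ⟨fun C _ J θ hC hθ => ?_, fun t => ?_⟩
  · have hle : (PrimeSpectrum.vanishingIdeal (j.base ⁻¹' Y)).map (θ.comp σ) ≤ J := by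
      rw [← Ideal.map_map]; exact (Ideal.map_mono hI).trans hθ
    obtain ⟨h, hh, huniq⟩ := hlift C J (θ.comp σ) hC hle (hσf.map θ)
    have hh' : ∀ a, h (sphMap π f a) = θ (σ a) := fun a => RingHom.congr_fun hh a
    refine ⟨h.comp β, ?_, fun k hk => ?_⟩
    · have : ((h.comp β).comp (app ι U)).comp (γ'.symm : Sec (HensSch.specLRS A) D →+* Sec X.toLocallyRingedSpace U) = θ.comp (γ'.symm : Sec (HensSch.specLRS A) D →+* Sec X.toLocallyRingedSpace U) := by
        refine IsLocalization.ringHom_ext (Submonoid.powers f) (RingHom.ext fun a => ?_)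
        show h (β (app ι U (σ a))) = θ (σ a)
        rw [hσ]; exact hh' a
      refine RingHom.ext fun s => ?_
      have h3 := RingHom.congr_fun this (γ' s)
      simpa using h3
    · have := huniq (k.comp (β'.symm : _ →+* _)) (RingHom.ext fun a => by
        show k (β'.symm (sphMap π f a)) = θ (σ a)
        rw [← hσ a, show β (app ι U (σ a)) = β' (app ι U (σ a)) from rfl, RingEquiv.symm_apply_apply]
        exact RingHom.congr_fun hk (σ a))
      refine RingHom.ext fun x => ?_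
      have h3 := RingHom.congr_fun this (β x)
      rw [show (k.comp (β'.symm : _ →+* _)) (β x) = k x from congrArg k (β'.symm_apply_apply x)] at h3
      exact h3
  · obtain ⟨a, k, hk⟩ := exists_decomp (hV.2.2 f) (β t)
    obtain ⟨e, he⟩ := hσf.pow k
    refine ⟨σ a * (↑e⁻¹), ?_⟩
    have hcomp : (β.comp (app ι U)).comp σ = sphMap π f := RingHom.ext hσ
    have hmem : sphMap π f f ^ k * β t - sphMap π f a ∈ ((van X.toLocallyRingedSpace U Y).map (app ι U)).map β := by
      refine (Ideal.map_mono (Ideal.map_mono hI)) ?_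
      rw [Ideal.map_map, Ideal.map_map]
      exact (congrArg (fun F => Ideal.map F _) hcomp).ge hk
    obtain ⟨w, hw, hwe⟩ := (Ideal.mem_map_iff_of_surjective β hβ.2).mp hmem
    have hwt : w = app ι U (σ f) ^ k * t - app ι U (σ a) := hβ.1 (by
      rw [hwe, map_sub, map_mul, map_pow, hσ, hσ])
    rw [hwt] at hw
    have := Ideal.mul_mem_left _ (app ι U ↑e⁻¹) hw
    rw [mul_sub, ← mul_assoc, ← map_pow, ← map_mul, ← map_mul, ← he, Units.inv_mul, map_one, one_mul, mul_comm] at this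
    exact this

theorem exists_isGoodOpen (hh : HensSch.IsHenselizationAlong X Y Xh ι) (y : X) (hy : y ∈ Y)
    (O : Opens X.toLocallyRingedSpace) (hyO : y ∈ O) : ∃ U, IsGoodOpen ι Y U ∧ y ∈ U ∧ U ≤ O := by
  obtain ⟨A, _, j, _, ⟨p, rfl⟩, V, v, _, π, hr, hc, hV⟩ := hh.2.2.2 y hy
  obtain ⟨_, ⟨f, rfl⟩, hpf, hf⟩ := PrimeSpectrum.isTopologicalBasis_basic_opens.exists_subset_of_mem_open
    (show p ∈ j.base ⁻¹' (O : Set X.toLocallyRingedSpace) from hyO) (O.isOpen.preimage j.base.hom.continuous)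
  refine ⟨⟨j.base '' (PrimeSpectrum.basicOpen f : Set (PrimeSpectrum A)),
    j.isOpenEmbedding.isOpenMap _ (PrimeSpectrum.basicOpen f).isOpen⟩,
    isGoodOpen_of_chart j v π hr hc hV f rfl, ⟨p, hpf, rfl⟩, ?_⟩
  rintro _ ⟨q, hq, rfl⟩
  exact hf hq

end Groth.Agent.HensSch7
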