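import Groth.Agent.HensSch7.Basis
import Groth.Agent.SiteBase.RelLiftTop
import Mathlib.RingTheory.Flat.Localization

/-! Flatness of henselisations. -/

set_option autoImplicit false
universe u

open CategoryTheory Opposite TopologicalSpace AlgebraicGeometry Topology

namespace Groth.Agent.HensSch7

theorem flat_of_isHensAway {A : Type u} [CommRing A] {I : Ideal A} {f : A} {B : Type u} [CommRing B] {φ : A →+* B}
    (h : HensSch.IsHensAway A I f B φ) : φ.Flat := by
  let L := Localization.Away f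
  let : Algebra L B := (IsLocalization.Away.lift (S := L) f h.1).toAlgebra
  have hcomp : (algebraMap L B).comp (algebraMap A L) = φ := IsLocalization.Away.lift_comp f h.1
  have hpair : Hens2.IsPairHenselization L (I.map (algebraMap A L)) B := by
    refine ⟨?_, fun C _ J θ hC hθ => ?_⟩
    · rw [Ideal.map_map, hcomp]; exact h.2.1
    · rw [Ideal.map_map] at hθ
      obtain ⟨g, hg, huniq⟩ := h.2.2 C J (θ.comp (algebraMap A L)) hC hθ
        ((IsLocalization.Away.algebraMap_isUnit (S := L) f).map θ)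
      refine ⟨g, IsLocalization.ringHom_ext (Submonoid.powers f) ?_, fun g' hg' => huniq g' ?_⟩
      · rw [RingHom.comp_assoc, hcomp, hg]
      · simp only at hg' ⊢
        rw [← hg', RingHom.comp_assoc, hcomp]
  have h1 : (algebraMap A L).Flat := RingHom.flat_algebraMap_iff.mpr (IsLocalization.flat L (Submonoid.powers f))
  have h2 : (algebraMap L B).Flat :=
    RingHom.flat_algebraMap_iff.mpr (Hensel.flat_of_isPairHenselization _ hpair)
  exact hcomp ▸ h1.comp h2

theorem flat_stalkMap_sph {A : Type u} [CommRing A] {I : Ideal A} {V : LocallyRingedSpace.{u}}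
    {π : V ⟶ HensSch.specLRS A} (hV : HensSch.IsSph A I V π) (x : V) : (π.stalkMap x).hom.Flat := by
  let p : PrimeSpectrum A := π.base x
  let S : Type u := (HensSch.specLRS A).presheaf.stalk (π.base x)
  let gS : A →+* S := ((HensSch.specLRS A).presheaf.germ ⊤ (π.base x) trivial).hom.comp
    (Scheme.ΓSpecIso (CommRingCat.of A)).inv.hom
  let T : Type u := V.presheaf.stalk x
  let ψ : A →+* T := (π.stalkMap x).hom.comp gS
  have hψ : ∀ (f : A) (hx : x ∈ HensSch.dOpen π f) (a : A),
      ψ a = V.presheaf.germ (HensSch.dOpen π f) x hx (sphMap π f a) := by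
    intro f hx a
    refine Eq.trans ?_ (V.presheaf.germ_res_apply
      (homOfLE (le_top : HensSch.dOpen π f ≤ (Opens.map π.base).obj ⊤)) x hx _).symm
    exact PresheafedSpace.stalkMap_germ_apply π.toHom ⊤ x trivial _
  letI : Algebra A T := ψ.toAlgebra
  have hflat : Module.Flat A T := by
    classical
    rw [Module.Flat.iff_forall_isTrivialRelation]
    intro l r t hrt
    choose O hxO s hs using fun i => V.presheaf.exists_germ_eq (t i)
    let O₀ : Opens V := Finset.univ.inf O
    have hxO₀ : x ∈ O₀ := by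
      show x ∈ ((Finset.univ.inf O : Opens V) : Set V)
      rw [Opens.coe_finset_inf]
      simp only [Finset.inf_set_eq_iInter, Function.comp_apply, Set.mem_iInter, SetLike.mem_coe]
      exact fun i _ => hxO i
    obtain ⟨f₀, hxf₀, hf₀⟩ := exists_dOpen hV x O₀ hxO₀
    let s₀ : Fin l → Sec V (HensSch.dOpen π f₀) := fun i =>
      res (hf₀.trans (Finset.inf_le (Finset.mem_univ i))) (s i)
    have hs₀ : ∀ i, V.presheaf.germ _ x hxf₀ (s₀ i) = t i := fun i =>
      (V.presheaf.germ_res_apply _ x hxf₀ (s i)).trans (hs i)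
    have h0 : V.presheaf.germ _ x hxf₀ (∑ i, sphMap π f₀ (r i) * s₀ i) =
        V.presheaf.germ _ x hxf₀ 0 := by
      rw [map_zero, map_sum]
      refine Eq.trans (Finset.sum_congr rfl fun i _ => ?_) hrt
      rw [map_mul, hs₀, ← hψ f₀ hxf₀]
      rfl
    obtain ⟨W, hxW, i₁, i₂, hW⟩ := V.presheaf.germ_eq x hxf₀ hxf₀ _ _ h0
    obtain ⟨f₁, hxf₁, hf₁⟩ := exists_dOpen hV x W hxW
    have hle : HensSch.dOpen π f₁ ≤ HensSch.dOpen π f₀ := hf₁.trans i₁.le
    let φ₁ := sphMap π f₁
    letI : Algebra A (Sec V (HensSch.dOpen π f₁)) := φ₁.toAlgebra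
    haveI : Module.Flat A (Sec V (HensSch.dOpen π f₁)) := flat_of_isHensAway (hV.2.2 f₁)
    have hsm : ∀ a, res hle (sphMap π f₀ a) = φ₁ a := fun a => by
      rw [sphMap_eq, res_res]; rfl
    have hrel : ∑ i, r i • res hle (s₀ i) = 0 := by
      have h1 : res hle (∑ i, sphMap π f₀ (r i) * s₀ i) = res hle (0 : Sec V (HensSch.dOpen π f₀)) := by
        have h2 := congrArg (res hf₁) (show res i₁.le (∑ i, sphMap π f₀ (r i) * s₀ i) = res i₂.le 0 from hW)
        rw [res_res, res_res] at h2
        exact h2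
      rw [map_zero, map_sum] at h1
      refine Eq.trans (Finset.sum_congr rfl fun i _ => ?_) h1
      rw [map_mul, hsm]; rfl
    obtain ⟨k, N, b, hb, hN⟩ := Module.Flat.isTrivialRelation_of_sum_smul_eq_zero hrel
    refine ⟨k, N, fun j => V.presheaf.germ _ x hxf₁ (b j), fun i => ?_, hN⟩
    rw [← hs₀ i, ← V.presheaf.germ_res_apply (homOfLE hle) x hxf₁ (s₀ i)]
    refine (congrArg (V.presheaf.germ _ x hxf₁) (hb i)).trans ?_
    rw [map_sum]
    refine Finset.sum_congr rfl fun j _ => ?_
    show V.presheaf.germ _ x hxf₁ (φ₁ (N i j) * b j) = ψ (N i j) * _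
    rw [map_mul, hψ f₁ hxf₁]
  letI : Algebra A S := gS.toAlgebra
  haveI : IsLocalization p.asIdeal.primeCompl S :=
    (inferInstance : IsLocalization.AtPrime ((Spec.structureSheaf A).presheaf.stalk p) p.asIdeal)
  letI : Algebra S T := (π.stalkMap x).hom.toAlgebra
  haveI : IsScalarTower A S T := .of_algebraMap_eq fun _ => rfl
  exact (Module.flat_iff_of_isLocalization (R := A) (S := S) (p := p.asIdeal.primeCompl) (M := T)).mpr hflat

theorem flat_of_comp_iso {P Q R : CommRingCat.{u}} (a : P ⟶ Q) (b : Q ⟶ R) [IsIso b] (h : (a ≫ b).hom.Flat) :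
    a.hom.Flat := by
  have h3 := h.comp (RingHom.Flat.of_bijective (ConcreteCategory.bijective_of_isIso (inv b)))
  rwa [← CommRingCat.hom_comp, Category.assoc, IsIso.hom_inv_id, Category.comp_id] at h3

theorem flat_stalkMap_congr {X Y : LocallyRingedSpace.{u}} {g₁ g₂ : X ⟶ Y} (h : g₁ = g₂) (x : X)
    (hg : (g₁.stalkMap x).hom.Flat) : (g₂.stalkMap x).hom.Flat := by subst h; exact hg

theorem flat_stalkMap_henselization {X : Scheme.{u}} {Y : Set X} {Xh : LocallyRingedSpace.{u}}
    {ι : Xh ⟶ X.toLocallyRingedSpace} (hh : HensSch.IsHenselizationAlong X Y Xh ι) (x : Xh) :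
    (ι.stalkMap x).hom.Flat := by
  obtain ⟨A, _, j, hj, hxj, V, v, hv, π, hr, hc, hV⟩ := hh.2.2.2 (ι.base x) (hh.2.2.1.le ⟨x, rfl⟩)
  obtain ⟨w, rfl⟩ : x ∈ Set.range v.base := hr.ge hxj
  haveI : LocallyRingedSpace.IsOpenImmersion j.toLRSHom := hj
  have hjv : ∀ {P Q : LocallyRingedSpace.{u}} (g : P ⟶ Q) [LocallyRingedSpace.IsOpenImmersion g] (z : P),
      IsIso (g.stalkMap z) := fun g _ z => PresheafedSpace.IsOpenImmersion.stalk_iso g.toHom z
  have hflat : ((π ≫ j.toLRSHom).stalkMap w).hom.Flat := by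
    rw [LocallyRingedSpace.stalkMap_comp]
    haveI := hjv j.toLRSHom (π.base w)
    exact (RingHom.Flat.of_bijective (ConcreteCategory.bijective_of_isIso (j.toLRSHom.stalkMap (π.base w)))).comp
      (flat_stalkMap_sph hV w)
  have h2 := flat_stalkMap_congr hc.symm w hflat
  rw [LocallyRingedSpace.stalkMap_comp] at h2
  haveI := hjv v w
  exact flat_of_comp_iso _ _ h2

theorem preservesFiniteLimits_pullMod {X Y : LocallyRingedSpace.{u}} (g : X ⟶ Y)
    (h : ∀ x, (g.stalkMap x).hom.Flat) : Limits.PreservesFiniteLimits (HensSch.pullMod g) :=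
  SiteBase.isFlat_of_relLift _ (SiteBase.relLift_of_flat_stalks g.base X.sheaf Y.sheaf ⟨g.c⟩ h)

end Groth.Agent.HensSch7
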