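import Groth.Agent.HensSch7.Sky
import Groth.Agent.HensSch7.Flat
import Groth.Agent.QCoh.Stalk
import Mathlib.RingTheory.Flat.FaithfullyFlat.Algebra

/-! Faithfulness of henselisation on quasi-coherent modules. -/

set_option autoImplicit false
set_option backward.isDefEq.respectTransparency false
set_option backward.isDefEq.respectTransparency.types false
universe u

open CategoryTheory CategoryTheory.Limits Opposite TopologicalSpace AlgebraicGeometry
open scoped TensorProduct

namespace Groth.Agent.HensSch7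

/-- The skyscraper at `x` of `O_x ⊗ G_{ι x}`. -/
theorem germ_app_eq_zero {X : Scheme.{u}} {Xh : LocallyRingedSpace.{u}} (ι : Xh ⟶ X.toLocallyRingedSpace)
    {F G : X.Modules} (φ : F ⟶ G) (h0 : (HensSch.pullMod ι).map φ = 0) (x : Xh)
    (hflat : (ι.stalkMap x).hom.Flat) (U : X.Opens) (hx : ι.base x ∈ U) (s : Γ(F, U)) :
    G.presheaf.germ U (ι.base x) hx (φ.app U s) = 0 := by
  let S : Type u := X.presheaf.stalk (ι.base x)
  let T : Type u := Xh.presheaf.stalk x
  letI : Algebra S T := (ι.stalkMap x).hom.toAlgebra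
  haveI : Module.Flat S T := hflat
  haveI : IsLocalHom (algebraMap S T) := AlgebraicGeometry.LocallyRingedSpace.isLocalHomStalkMap ι x
  haveI : Module.FaithfullyFlat S T := Module.FaithfullyFlat.of_flat_of_isLocalHom
  let Gy : Type u := G.presheaf.stalk (ι.base x)
  let N : ModuleCat.{u} (Xh.presheaf.stalk x) := ModuleCat.of T (T ⊗[S] Gy)
  let ψv : G.val ⟶ ((HensSch.pushMod ι).obj (sky x N)).val :=
    { app := fun V => ModuleCat.ofHom (Y := ((HensSch.pushMod ι).obj (sky x N)).val.obj V)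
        { toFun := fun m h => (1 : T) ⊗ₜ[S] (G.presheaf.germ V.unop (ι.base x) h.down m : Gy)
          map_add' := fun a b => funext fun h => by
            show (1 : T) ⊗ₜ[S] (G.presheaf.germ V.unop (ι.base x) h.down (a + b) : Gy) = _
            rw [map_add, TensorProduct.tmul_add]
            rfl
          map_smul' := fun r m => funext fun h => by
            show (1 : T) ⊗ₜ[S] (G.presheaf.germ V.unop (ι.base x) h.down (r • m) : Gy) =
              (Xh.presheaf.germ ((Opens.map ι.base).obj V.unop) x h.down (ι.c.app V r) : T) •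
                ((1 : T) ⊗ₜ[S] (G.presheaf.germ V.unop (ι.base x) h.down m : Gy))
            rw [QCoh.germ_smul', TensorProduct.smul_tmul', smul_eq_mul, mul_one, ← TensorProduct.smul_tmul,
              Algebra.smul_def, mul_one]
            congr 1
            exact PresheafedSpace.stalkMap_germ_apply ι.toHom V.unop x h.down r }
      naturality := fun {V W} i => ModuleCat.hom_ext (LinearMap.ext fun m => funext fun h => by
        show (1 : T) ⊗ₜ[S] (G.presheaf.germ W.unop (ι.base x) h.down (G.presheaf.map i m) : Gy) =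
          (1 : T) ⊗ₜ[S] (G.presheaf.germ V.unop (ι.base x) (i.unop.le h.down) m : Gy)
        exact congrArg _ (G.presheaf.germ_res_apply i.unop (ι.base x) h.down m)) }
  let ψ : G ⟶ (HensSch.pushMod ι).obj (sky x N) := ⟨ψv⟩
  have hz : φ ≫ ψ = 0 := by
    let e := (HensSch.pullPushAdj ι)
    have h1 : (e.homEquiv F (sky x N)).symm (φ ≫ ψ) = 0 := by
      refine (e.homEquiv_naturality_left_symm φ ψ).trans ?_
      exact (congrArg (fun a => a ≫ _) h0).trans zero_comp
    have h2 := congrArg (e.homEquiv F (sky x N)) h1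
    rw [Equiv.apply_symm_apply] at h2
    rw [h2, Adjunction.homEquiv_unit]
    haveI : (HensSch.pushMod ι).PreservesZeroMorphisms := inferInstance
    rw [Functor.map_zero, comp_zero]
  have h3 : (1 : T) ⊗ₜ[S] (G.presheaf.germ U (ι.base x) hx (φ.app U s) : Gy) = 0 :=
    congrArg (fun a : F ⟶ (HensSch.pushMod ι).obj (sky x N) =>
      (((a.val.app (op U)).hom s) (⟨hx⟩ : PLift (x ∈ (Opens.map ι.base).obj U)) : T ⊗[S] Gy)) hz
  exact Module.FaithfullyFlat.tensorProduct_mk_injective (A := S) (B := T) Gy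
    (h3.trans (TensorProduct.tmul_zero _ _).symm)

theorem injective_pullMod_map {X : Scheme.{u}} [CompactSpace X] {Y : Set X}
    (hY : ∀ x : X, IsClosed ({x} : Set X) → x ∈ Y) {Xh : LocallyRingedSpace.{u}} {ι : Xh ⟶ X.toLocallyRingedSpace}
    (hh : HensSch.IsHenselizationAlong X Y Xh ι) {F G : X.Modules} (hF : Coh.IsQCoh F) :
    Function.Injective ((HensSch.pullMod ι).map : (F ⟶ G) → ((HensSch.pullMod ι).obj F ⟶ (HensSch.pullMod ι).obj G)) := by
  intro φ₁ φ₂ h12
  haveI : (HensSch.pullMod ι).Additive := (HensSch.pullPushAdj ι).left_adjoint_additive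
  have h0 : (HensSch.pullMod ι).map (φ₁ - φ₂) = 0 := ((HensSch.pullMod ι).map_sub).trans (sub_eq_zero.mpr h12)
  refine sub_eq_zero.mp ?_
  generalize φ₁ - φ₂ = φ at h0
  refine Scheme.Modules.hom_ext φ 0 fun U => ?_
  refine AddCommGrpCat.hom_ext (AddMonoidHom.ext fun s => ?_)
  show Scheme.Modules.Hom.app φ U s = 0
  refine TopCat.Presheaf.section_ext (⟨G.presheaf, G.isSheaf⟩ : TopCat.Sheaf AddCommGrpCat.{u} X) U _ _ fun x hx => ?_
  show G.presheaf.germ U x hx (Scheme.Modules.Hom.app φ U s) = G.presheaf.germ U x hx 0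
  rw [map_zero]
  obtain ⟨z, hz, hzc⟩ := (isClosed_closure (s := ({x} : Set X))).exists_closed_singleton
    ⟨x, subset_closure rfl⟩
  obtain ⟨zh, hzh⟩ := hh.2.2.1.ge (hY z hzc)
  obtain ⟨_, ⟨W, hW, rfl⟩, hzW, -⟩ :=
    X.isBasis_affineOpens.exists_subset_of_mem_open (Set.mem_univ z) isOpen_univ
  have hxW : x ∈ W := by
    obtain ⟨w, hw, rfl⟩ := mem_closure_iff.mp hz (W : Set X) W.2 hzW
    exact hw
  letI := QCoh.stalkModule F hxW
  haveI := QCoh.isLocalizedModule_germLin hF hW hxW
  obtain ⟨⟨m, a⟩, hma⟩ := IsLocalizedModule.surj (hW.primeIdealOf ⟨x, hxW⟩).asIdeal.primeCompl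
    (QCoh.germLin F hxW) (F.presheaf.germ U x hx s)
  have hu : IsUnit (X.presheaf.germ W x hxW a.1) :=
    (X.mem_basicOpen _ x hxW).1 ((QCoh.mem_basicOpen_iff_notMem hW hxW _).2 a.2)
  have hz0 : G.presheaf.germ W z hzW (Scheme.Modules.Hom.app φ W m) = 0 := by
    subst hzh
    exact germ_app_eq_zero ι φ h0 zh (flat_stalkMap_henselization hh zh) W hzW m
  obtain ⟨W', hzW', i₁, i₂, hW'⟩ := TopCat.Presheaf.germ_eq G.presheaf z hzW hzW (Scheme.Modules.Hom.app φ W m) 0
    (hz0.trans (map_zero _).symm)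
  have hxW' : x ∈ W' := by
    obtain ⟨w, hw, rfl⟩ := mem_closure_iff.mp hz (W' : Set X) W'.2 hzW'
    exact hw
  have hx0 : G.presheaf.germ W x hxW (Scheme.Modules.Hom.app φ W m) = 0 := by
    rw [← G.presheaf.germ_res_apply i₁ x hxW', hW', map_zero, map_zero]
  let st := (TopCat.Presheaf.stalkFunctor AddCommGrpCat.{u} x).map ((Scheme.Modules.toPresheaf X).map φ)
  have hst : ∀ (V : X.Opens) (hV : x ∈ V) (t : Γ(F, V)),
      st (F.presheaf.germ V x hV t) = G.presheaf.germ V x hV (Scheme.Modules.Hom.app φ V t) := fun V hV t =>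
    TopCat.Presheaf.stalkFunctor_map_germ_apply V x hV ((Scheme.Modules.toPresheaf X).map φ) t
  refine hu.smul_eq_zero.mp ?_
  obtain ⟨V, hxV, hV⟩ : ∃ V : X.Opens, x ∈ V ∧ V ≤ U ⊓ W := ⟨U ⊓ W, ⟨hx, hxW⟩, le_rfl⟩
  have hL : F.presheaf.germ V x hxV (X.presheaf.map (homOfLE (hV.trans inf_le_right)).op a.1 •
      F.presheaf.map (homOfLE (hV.trans inf_le_left)).op s) = F.presheaf.germ W x hxW m := by
    rw [QCoh.germ_smul', X.presheaf.germ_res_apply, F.presheaf.germ_res_apply]
    exact hma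
  have h4 := congrArg st hL
  rw [hst, hst, hx0, Scheme.Modules.Hom.app_smul, QCoh.germ_smul', X.presheaf.germ_res_apply] at h4
  rw [← h4]
  congr 1
  rw [← G.presheaf.germ_res_apply (homOfLE (hV.trans inf_le_left)) x hxV (Scheme.Modules.Hom.app φ U s)]
  congr 1
  exact (congr($((Scheme.Modules.Hom.mapPresheaf φ).naturality (homOfLE (hV.trans inf_le_left)).op) s)).symm

end Groth.Agent.HensSch7
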