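import Groth.Agent.HensSch7.UnitIso
import Groth.Agent.HensSch7.Faithful
import Groth.Agent.Algz7.Completion
import Groth.Agent.S0060

/-! Full faithfulness of henselisation on coherent modules over a complete pair. -/

set_option autoImplicit false
set_option linter.style.haveILetI false
set_option backward.isDefEq.respectTransparency false
set_option backward.isDefEq.respectTransparency.types false
universe u

open CategoryTheory CategoryTheory.Limits Opposite TopologicalSpace AlgebraicGeometry
open scoped TensorProduct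

namespace Groth.Agent.HensSch7

variable {A : Type u} [CommRing A] {X : Scheme.{u}} [X.Over (Spec (CommRingCat.of A))]

/-- The map on stalks of a morphism of modules on a scheme, linearly. -/
noncomputable def stalkLin {F G : X.Modules} (f : F ⟶ G) (y : X) :
    (F.presheaf.stalk y : Type u) →ₗ[(X.presheaf.stalk y : Type u)] (G.presheaf.stalk y : Type u) where
  toFun := stkMap (Z := X.toLocallyRingedSpace) (P := F) (Q := G) f y
  map_add' := map_add _
  map_smul' := stkMap_smul (Z := X.toLocallyRingedSpace) (P := F) (Q := G) f y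

theorem stalkLin_germ {F G : X.Modules} (f : F ⟶ G) (y : X) (U : X.Opens) (hy : y ∈ U) (g : Γ(F, U)) :
    stalkLin f y (F.presheaf.germ U y hy g) = G.presheaf.germ U y hy (f.app U g) :=
  stkMap_mgerm (Z := X.toLocallyRingedSpace) (P := F) (Q := G) f y hy g

theorem ker_stalkLin_modPowπ_le (I : Ideal A) (n : ℕ) (G : X.Modules) (y : X) :
    LinearMap.ker (stalkLin (Formal.modPowπ I n G) y) ≤
      ((I ^ n).map (toS (X ↘ Spec (CommRingCat.of A)) y)) •
        (⊤ : Submodule (X.presheaf.stalk y : Type u) (G.presheaf.stalk y : Type u)) := by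
  let R : Submodule (X.presheaf.stalk y : Type u) (G.presheaf.stalk y : Type u) :=
    ((I ^ n).map (toS (X ↘ Spec (CommRingCat.of A)) y)) • ⊤
  let N : ModuleCat.{u} (X.toLocallyRingedSpace.presheaf.stalk y) :=
    ModuleCat.of (X.presheaf.stalk y : Type u) ((G.presheaf.stalk y : Type u) ⧸ R)
  let q : G ⟶ sky (Z := X.toLocallyRingedSpace) y N := skyMap (Z := X.toLocallyRingedSpace) G y N R.mkQ
  have hq : Formal.smulFamily (I ^ n) G ≫ q = 0 := by
    apply Sigma.hom_ext
    intro a
    rw [comp_zero, ← Category.assoc, Formal.smulFamily, Sigma.ι_desc]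
    refine SheafOfModules.hom_ext (PresheafOfModules.hom_ext fun U => ModuleCat.hom_ext (LinearMap.ext fun g =>
      funext fun h => ?_))
    refine (Submodule.Quotient.mk_eq_zero R).mpr ?_
    show G.presheaf.germ U.unop y h.down (Scheme.Modules.Hom.app (Formal.smulMod A G (a : A)) U.unop g) ∈ R
    rw [germ_smulMod]
    exact Submodule.smul_mem_smul (Ideal.mem_map_of_mem _ a.2) trivial
  intro m hm
  obtain ⟨U, hy, g, rfl⟩ := TopCat.Presheaf.exists_germ_eq G.presheaf m
  rw [LinearMap.mem_ker, stalkLin_germ] at hm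
  obtain ⟨W, hW, hyW, hWe⟩ := exists_mres_eq (Z := X.toLocallyRingedSpace) (P := Formal.modPow I n G)
    (m := Scheme.Modules.Hom.app (Formal.modPowπ I n G) U g) (m' := 0) (hm.trans (map_zero _).symm)
  refine (Submodule.Quotient.mk_eq_zero R).mp ?_
  obtain ⟨q', hq'⟩ : ∃ q', Formal.modPowπ I n G ≫ q' = q := ⟨cokernel.desc _ q hq, cokernel.π_desc _ _ _⟩
  have h1 := congrArg (happ (Z := X.toLocallyRingedSpace) (P := Formal.modPow I n G) q' W) hWe
  rw [happ_mres, happ_mres] at h1
  have h2 : happ (Z := X.toLocallyRingedSpace) (P := G) q U g =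
      happ (Z := X.toLocallyRingedSpace) (P := Formal.modPow I n G) q' U
        (Scheme.Modules.Hom.app (Formal.modPowπ I n G) U g) := by
    rw [← hq']; rfl
  rw [← h2] at h1
  have h3 := congrArg (fun t => t (⟨hyW⟩ : PLift (y ∈ W))) h1
  refine Eq.trans ?_ (h3.trans ?_)
  · rfl
  · show (happ (Z := X.toLocallyRingedSpace) (P := Formal.modPow I n G) q' U 0) (⟨hy⟩ : PLift (y ∈ U)) = _
    rw [show happ (Z := X.toLocallyRingedSpace) (P := Formal.modPow I n G) q' U 0 = 0 from map_zero (q'.val.app (op U)).hom]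
    rfl

variable {I : Ideal A} {Xh : LocallyRingedSpace.{u}} {ι : Xh ⟶ X.toLocallyRingedSpace}
  (hh : HensSch.IsHenselizationAlong X ((X ↘ Spec (CommRingCat.of A)).base ⁻¹' PrimeSpectrum.zeroLocus (I : Set A)) Xh ι)

include hh

theorem eq_zero_of_comp_modPowπ [IsLocallyNoetherian X] {F G : X.Modules} (hG : Coh.IsCoh G)
    (δ : pl ι F ⟶ pl ι G) (hδ : ∀ n, δ ≫ (HensSch.pullMod ι).map (Formal.modPowπ I (n + 1) G) = 0) : δ = 0 := by
  refine SheafOfModules.hom_ext (PresheafOfModules.hom_ext fun V => ModuleCat.hom_ext (LinearMap.ext fun m => ?_))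
  refine msection_ext (pl ι G) (U := V.unop) _ 0 fun x hx => ?_
  rw [map_zero]
  letI := stAlg ι x
  let J : Ideal (SS ι x) := I.map (toS (X ↘ Spec (CommRingCat.of A)) (ι.base x))
  have hP : Hens2.IsPairHenselization (SS ι x) J (TT Xh x) := isHenzAt_henselization _ I hh x
  haveI : IsNoetherianRing (SS ι x) := inferInstanceAs (IsNoetherianRing (X.presheaf.stalk (ι.base x)))
  haveI : IsNoetherianRing (TT Xh x) := Hensel.isNoetherianRing_of_isPairHenselization _ hP
  haveI : Module.Flat (SS ι x) (TT Xh x) := flat_stalkMap_henselization hh x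
  haveI : IsLocalHom (algebraMap (SS ι x) (TT Xh x)) := AlgebraicGeometry.LocallyRingedSpace.isLocalHomStalkMap ι x
  haveI : Module.Finite (SS ι x) (FF ι G x) := QCoh.finite_stalk_of_isFT hG.1 hG.2 (ι.base x)
  obtain ⟨w, hw⟩ := surjective_phi ι G x (mgerm (pl ι G) x hx (happ δ V.unop m))
  have hker : ∀ n, w ∈ ((J.map (algebraMap (SS ι x) (TT Xh x))) ^ (n + 1)) •
      (⊤ : Submodule (TT Xh x) (TT Xh x ⊗[SS ι x] FF ι G x)) := by
    intro n
    let l : FF ι G x →ₗ[SS ι x] FF ι (Formal.modPow I (n + 1) G) x := stalkLin (Formal.modPowπ I (n + 1) G) (ι.base x)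
    have h0 : phi ι (Formal.modPow I (n + 1) G) x (l.baseChange (TT Xh x) w) = 0 := by
      rw [← phi_natural ι G x (Formal.modPowπ I (n + 1) G) l (fun U hU g => stalkLin_germ _ _ U hU g) w, hw,
        stkMap_mgerm]
      refine (congrArg (mgerm (pl ι (Formal.modPow I (n + 1) G)) x hx) ?_).trans (map_zero _)
      exact congrArg (fun φ : pl ι F ⟶ pl ι (Formal.modPow I (n + 1) G) => happ φ V.unop m) (hδ n)
    have h1 : l.lTensor (TT Xh x) w = 0 :=
      injective_phi ι (Formal.modPow I (n + 1) G) x (h0.trans (map_zero _).symm)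
    obtain ⟨v, rfl⟩ := (Module.Flat.lTensor_exact (TT Xh x) l.exact_subtype_ker_map w).mp h1
    clear h0 h1 hw
    induction v using TensorProduct.induction_on with
    | zero => rw [map_zero]; exact zero_mem _
    | tmul t k =>
      show t ⊗ₜ[SS ι x] (k : FF ι G x) ∈ _
      have hk := ker_stalkLin_modPowπ_le I (n + 1) G (ι.base x) k.2
      rw [Ideal.map_pow] at hk
      generalize (k : FF ι G x) = k' at hk ⊢
      refine Submodule.smul_induction_on hk (fun a ha b _ => ?_) fun a b ha hb => ?_
      · rw [← TensorProduct.smul_tmul, ← mul_one t, Algebra.smul_def, ← smul_eq_mul (algebraMap (SS ι x) (TT Xh x) a),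
          mul_one, ← TensorProduct.smul_tmul']
        refine Submodule.smul_mem_smul ?_ trivial
        rw [← Ideal.map_pow]
        exact Ideal.mem_map_of_mem _ ha
      · rw [TensorProduct.tmul_add]; exact add_mem ha hb
    | add a b ha hb => rw [map_add]; exact add_mem ha hb
  have hne : J.map (algebraMap (SS ι x) (TT Xh x)) ≠ ⊤ := by
    refine ne_top_of_le_ne_top (IsLocalRing.maximalIdeal.isMaximal (TT Xh x)).ne_top
      ((Ideal.map_mono (le_maximalIdeal _ I _ (hh.2.2.1.le ⟨x, rfl⟩))).trans ?_)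
    exact Ideal.map_le_iff_le_comap.mpr fun a ha => (IsLocalRing.mem_maximalIdeal _).mpr fun hu =>
      (IsLocalRing.mem_maximalIdeal _).mp ha ((isUnit_map_iff (algebraMap (SS ι x) (TT Xh x)) a).mp hu)
  have hbot := Ideal.iInf_pow_smul_eq_bot_of_isLocalRing (M := TT Xh x ⊗[SS ι x] FF ι G x) _ hne
  have hw0 : w = 0 := by
    refine (Submodule.mem_bot (TT Xh x)).mp (hbot ▸ Submodule.mem_iInf _ |>.mpr fun i => ?_)
    rcases i with _ | i
    · simp
    · exact hker i
  rw [hw0, map_zero] at hw
  exact hw.symm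

theorem closedPoint_mem [IsProper (X ↘ Spec (CommRingCat.of A))] [HenselianRing A I] (x : X)
    (hx : IsClosed ({x} : Set X)) : x ∈ (X ↘ Spec (CommRingCat.of A)).base ⁻¹' PrimeSpectrum.zeroLocus (I : Set A) := by
  have h1 : IsClosed ({(X ↘ Spec (CommRingCat.of A)).base x} : Set (PrimeSpectrum A)) := by
    rw [← Set.image_singleton]
    exact (X ↘ Spec (CommRingCat.of A)).isClosedMap _ hx
  rw [PrimeSpectrum.isClosed_singleton_iff_isMaximal] at h1
  refine (PrimeSpectrum.mem_zeroLocus _ _).mpr ((HenselianRing.jac (I := I)).trans ?_)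
  exact sInf_le ⟨bot_le, h1⟩

theorem bijective_pullMod_map [IsNoetherianRing A] [IsProper (X ↘ Spec (CommRingCat.of A))] [HenselianRing A I]
    [IsAdicComplete I A] {F G : X.Modules} (hF : Coh.IsCoh F) (hG : Coh.IsCoh G) :
    Function.Bijective ((HensSch.pullMod ι).map : (F ⟶ G) → ((HensSch.pullMod ι).obj F ⟶ (HensSch.pullMod ι).obj G)) := by
  haveI : IsLocallyNoetherian X := LocallyOfFiniteType.isLocallyNoetherian (X ↘ Spec (CommRingCat.of A))
  haveI : CompactSpace X := HasAffineProperty.iff_of_isAffine (P := @QuasiCompact) (f := X ↘ Spec (CommRingCat.of A))|>.mp inferInstance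
  refine ⟨injective_pullMod_map (fun x hx => closedPoint_mem hh x hx) hh hF.1, fun β => ?_⟩
  let e := HensSch.pullPushAdj ι
  have hk : ∀ n, Formal.KilledBy (I ^ (n + 1)) (Formal.modPow I (n + 1) G) := fun n =>
    (Algz7.isCohFormal_completion I hG).2.1 n
  have hiso : ∀ n, IsIso (e.unit.app (Formal.modPow I (n + 1) G)) := fun n => isIso_unit hh (hk n)
  let t : ∀ n, F ⟶ Formal.modPow I (n + 1) G := fun n =>
    e.homEquiv F ((HensSch.pullMod ι).obj (Formal.modPow I (n + 1) G))
      (β ≫ (HensSch.pullMod ι).map (Formal.modPowπ I (n + 1) G)) ≫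
        @CategoryTheory.inv _ _ _ _ (e.unit.app (Formal.modPow I (n + 1) G)) (hiso n)
  have ht : ∀ n, (HensSch.pullMod ι).map (t n) = β ≫ (HensSch.pullMod ι).map (Formal.modPowπ I (n + 1) G) := fun n => by
    haveI := hiso n
    apply (e.homEquiv _ _).injective
    rw [Adjunction.homEquiv_unit]
    refine (e.unit.naturality (t n)).symm.trans ?_
    show t n ≫ e.unit.app _ = _
    exact (Category.assoc _ _ _).trans ((congrArg (fun k => e.homEquiv F ((HensSch.pullMod ι).obj (Formal.modPow I (n + 1) G))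
      (β ≫ (HensSch.pullMod ι).map (Formal.modPowπ I (n + 1) G)) ≫ k)
        (IsIso.inv_hom_id (e.unit.app (Formal.modPow I (n + 1) G)))).trans (Category.comp_id _))
  have hcomp : ∀ n, t (n + 1) ≫ Formal.modPowTrans I (n + 1) G = t n := fun n => by
    haveI := hiso n
    have h1 : (HensSch.pullMod ι).map (t (n + 1) ≫ Formal.modPowTrans I (n + 1) G) = (HensSch.pullMod ι).map (t n) := by
      rw [Functor.map_comp, ht, ht, Category.assoc, ← Functor.map_comp, Formal.modPowπ_trans]
    have h2 := congrArg (fun a => e.homEquiv F _ a) h1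
    simp only [Adjunction.homEquiv_unit] at h2
    rw [← cancel_mono (e.unit.app (Formal.modPow I (n + 1) G))]
    exact ((e.unit.naturality _).trans h2).trans (e.unit.naturality (t n)).symm
  let c : ∀ n, (Formal.completion I F).obj (op n) ⟶ (Formal.completion I G).obj (op n) := fun n =>
    cokernel.desc _ (t n) (Algz7.smulFamily_comp_eq_zero (hk n) (t n))
  have hc : ∀ n, Formal.modPowπ I (n + 1) F ≫ c n = t n := fun n => cokernel.π_desc _ _ _
  have hnat : ∀ n, (Formal.completion I F).map (homOfLE (n.le_add_right 1)).op ≫ c n =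
      c (n + 1) ≫ (Formal.completion I G).map (homOfLE (n.le_add_right 1)).op := fun n => by
    rw [Algz7.completion_map_succ, Algz7.completion_map_succ]
    haveI : Epi (Formal.modPowπ I (n + 1 + 1) F) := (Algz7.isQuot_modPowπ I (n + 1 + 1) F).epi
    refine (cancel_epi (Formal.modPowπ I (n + 1 + 1) F)).mp ?_
    rw [← Category.assoc, ← Category.assoc, Formal.modPowπ_trans, hc, hc, hcomp]
  obtain ⟨φ, hφ, -⟩ := Groth.Agent.S0060.result A I X F G hF hG (NatTrans.ofOpSequence c hnat)
  refine ⟨φ, ?_⟩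
  haveI : (HensSch.pullMod ι).Additive := e.left_adjoint_additive
  refine (sub_eq_zero.mp (eq_zero_of_comp_modPowπ hh hG (β - (HensSch.pullMod ι).map φ) fun n => ?_)).symm
  rw [Preadditive.sub_comp, ← Functor.map_comp, ← hφ n, sub_eq_zero, ← ht]
  exact congrArg _ (hc n).symm

end Groth.Agent.HensSch7
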