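import Groth.Agent.HensSch7.FullFaith
import Groth.Agent.QCoh.DevissageP

/-! Global sections of henselisations of coherent modules. -/

set_option autoImplicit false
set_option linter.style.haveILetI false
set_option backward.isDefEq.respectTransparency false
set_option backward.isDefEq.respectTransparency.types false
universe u

open CategoryTheory CategoryTheory.Limits Opposite TopologicalSpace AlgebraicGeometry

namespace Groth.Agent.HensSch7

theorem bijective_app_one {X : Scheme.{u}} (M : X.Modules) :
    Function.Bijective (fun φ : Coh.structureModule X ⟶ M =>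
      φ.val.app (op ⊤) (1 : X.ringCatSheaf.obj.obj (op ⊤))) := by
  have hb : Function.Bijective (fun s : M.sections => s.val (op ⊤)) := by
    refine ⟨fun a b hab => Subtype.ext (funext fun U => ?_), fun m => ⟨⟨fun U =>
      M.val.map (homOfLE (le_top : U.unop ≤ ⊤)).op m, fun {U V} f => ?_⟩, ?_⟩⟩
    · have h1 : M.val.map (homOfLE (le_top : U.unop ≤ ⊤)).op (a.val (op ⊤)) = a.val U := a.property _
      have h2 : M.val.map (homOfLE (le_top : U.unop ≤ ⊤)).op (b.val (op ⊤)) = b.val U := b.property _
      exact h1.symm.trans ((congrArg _ hab).trans h2)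
    · exact (M.val.presheaf.map_comp_apply (homOfLE (le_top : U.unop ≤ ⊤)).op f m).symm
    · exact M.val.presheaf.map_id_apply (op ⊤) m
  have heq : (fun φ : Coh.structureModule X ⟶ M => φ.val.app (op ⊤) (1 : X.ringCatSheaf.obj.obj (op ⊤))) =
      (fun s : M.sections => s.val (op ⊤)) ∘ M.unitHomEquiv := funext fun φ => rfl
  rw [heq]
  exact hb.comp M.unitHomEquiv.bijective

theorem bijective_unit_top {A : Type u} [CommRing A] {X : Scheme.{u}} [X.Over (Spec (CommRingCat.of A))]
    {I : Ideal A} {Xh : LocallyRingedSpace.{u}} {ι : Xh ⟶ X.toLocallyRingedSpace}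
    (hh : HensSch.IsHenselizationAlong X ((X ↘ Spec (CommRingCat.of A)).base ⁻¹' PrimeSpectrum.zeroLocus (I : Set A)) Xh ι)
    [IsNoetherianRing A] [IsProper (X ↘ Spec (CommRingCat.of A))] [HenselianRing A I] [IsAdicComplete I A]
    {F : X.Modules} (hF : Coh.IsCoh F) :
    Function.Bijective (((HensSch.pullPushAdj ι).unit.app F).val.app (op ⊤)) := by
  haveI : IsLocallyNoetherian X := LocallyOfFiniteType.isLocallyNoetherian (X ↘ Spec (CommRingCat.of A))
  let e := HensSch.pullPushAdj ι
  let G : X.Modules := (HensSch.pushMod ι).obj ((HensSch.pullMod ι).obj F)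
  have h1 : Function.Bijective (fun φ : Coh.structureModule X ⟶ F => e.homEquiv _ _ ((HensSch.pullMod ι).map φ)) :=
    (e.homEquiv _ _).bijective.comp (bijective_pullMod_map hh QCoh.isCoh_structureModule' hF)
  have h2 : (fun φ : Coh.structureModule X ⟶ F => e.homEquiv _ _ ((HensSch.pullMod ι).map φ)) =
      fun φ => (φ ≫ (e.unit.app F : F ⟶ G) : Coh.structureModule X ⟶ G) := funext fun φ =>
    (Adjunction.homEquiv_unit ..).trans (e.unit.naturality φ).symm
  rw [h2] at h1
  refine (Function.Bijective.of_comp_iff _ (bijective_app_one F)).mp ?_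
  exact (bijective_app_one G).comp h1

end Groth.Agent.HensSch7
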