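import Groth.Agent.HensSch7.Sph
import Groth.Agent.HensSch7.Immersion

/-! Distinguished opens in the overlap of two affine henselian spectra. -/

set_option autoImplicit false
universe u

open CategoryTheory Opposite TopologicalSpace AlgebraicGeometry Topology

namespace Groth.Agent.HensSch7

theorem exists_image_eq {X U V : LocallyRingedSpace.{u}} (iU : U ⟶ X) [LocallyRingedSpace.IsOpenImmersion iU]
    (iV : V ⟶ X) [LocallyRingedSpace.IsOpenImmersion iV]
    {A : Type u} [CommRing A] {I : Ideal A} {πU : U ⟶ HensSch.specLRS A} (hU : HensSch.IsSph A I U πU)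
    {B : Type u} [CommRing B] {J : Ideal B} {πV : V ⟶ HensSch.specLRS B} (hV : HensSch.IsSph B J V πV)
    (x : X) (hxU : x ∈ Set.range iU.base) (hxV : x ∈ Set.range iV.base) :
    ∃ (f : A) (g : B), x ∈ iU.base '' (HensSch.dOpen πU f : Set U) ∧
      iU.base '' (HensSch.dOpen πU f : Set U) = iV.base '' (HensSch.dOpen πV g : Set V) := by
  have hoU : IsOpenEmbedding iU.base :=
    (show LocallyRingedSpace.IsOpenImmersion iU from inferInstance).base_open
  have hoV : IsOpenEmbedding iV.base :=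
    (show LocallyRingedSpace.IsOpenImmersion iV from inferInstance).base_open
  obtain ⟨u₀, rfl⟩ := hxU
  obtain ⟨v₀, hv₀⟩ := hxV
  obtain ⟨f, hf, hfV⟩ := exists_dOpen hU u₀ ⟨iU.base ⁻¹' Set.range iV.base,
    hoV.isOpen_range.preimage iU.base.hom.continuous⟩ ⟨v₀, hv₀⟩
  let W : Opens X := ⟨iU.base '' (HensSch.dOpen πU f : Set U), hoU.isOpenMap _ (HensSch.dOpen πU f).isOpen⟩
  obtain ⟨g, hg, hgW⟩ := exists_dOpen hV v₀ ((Opens.map iV.base).obj W) ⟨u₀, hf, hv₀.symm⟩
  let β := appLE iU W (HensSch.dOpen πU f) (fun u hu => ⟨u, hu, rfl⟩)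
  let V₀ : Opens V := (Opens.map iV.base).obj W
  have hβV : Function.Bijective (appLE iV W V₀ le_rfl) :=
    bijective_appLE iV le_rfl (fun _ h => h) fun z ⟨u, hu, huz⟩ => huz ▸ hfV hu
  have hle : V₀ ≤ HensSch.dOpen πV (1 : B) := fun w _ h =>
    (PrimeSpectrum.asIdeal (πV.base w)).ne_top_iff_one.mp (Ideal.IsPrime.ne_top inferInstance) h
  obtain ⟨s, hs⟩ := hβV.2 (res hle (sphMap πV 1 g))
  obtain ⟨a, k, hk⟩ := exists_decomp (hU.2.2 f) (β s)
  have key : ∀ (u : U) (hu : u ∈ HensSch.dOpen πU f) (w : V) (hw : w ∈ V₀), iU.base u = iV.base w →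
      (a ∉ PrimeSpectrum.asIdeal (πU.base u) ↔ g ∉ PrimeSpectrum.asIdeal (πV.base w)) := by
    intro u hu w hw huw
    have hV' := (isUnit_germ_appLE iV (le_refl V₀) hw s).symm.trans
      (by rw [hs, isUnit_germ_res hle hw, isUnit_germ_sphMap])
    have hfu : IsUnit (U.presheaf.germ _ u hu (sphMap πU f f ^ k)) := ((hU.2.2 f).1.pow k).map _
    have hkn := mem_van.mp (map_le_van hU f hk) u hu trivial
    rw [← mem_nonunits_iff, ← IsLocalRing.mem_maximalIdeal, map_sub] at hkn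
    have hUk : IsUnit (U.presheaf.germ _ u hu (β s)) ↔ a ∉ PrimeSpectrum.asIdeal (πU.base u) := by
      rw [← isUnit_germ_sphMap πU f a u hu, ← not_iff_not, ← mem_nonunits_iff, ← mem_nonunits_iff,
        ← IsLocalRing.mem_maximalIdeal, ← IsLocalRing.mem_maximalIdeal]
      rw [map_mul] at hkn
      refine ⟨fun h => ?_, fun h => ?_⟩
      · have h1 := sub_mem (Ideal.mul_mem_left _ (U.presheaf.germ _ u hu (sphMap πU f f ^ k)) h) hkn
        rwa [sub_sub_cancel] at h1
      · have h1 := add_mem hkn h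
        rw [sub_add_cancel] at h1
        exact (Ideal.unit_mul_mem_iff_mem _ hfu).mp h1
    rw [← hUk, isUnit_germ_appLE iU _ hu]
    have : ∀ {p q : X}, p = q → ∀ (hp : p ∈ W) (hq : q ∈ W),
        (IsUnit (X.presheaf.germ W p hp s) ↔ IsUnit (X.presheaf.germ W q hq s)) := by
      rintro p _ rfl _ _; rfl
    exact (this huw _ _).trans hV'
  refine ⟨f * a, g, ⟨u₀, ?_, rfl⟩, ?_⟩
  · show f * a ∉ _
    exact fun h => (Ideal.IsPrime.mem_or_mem inferInstance h).elim hf
      ((key u₀ hf v₀ (hgW hg) hv₀.symm).mpr hg)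
  · refine Set.eq_of_subset_of_subset ?_ ?_
    · rintro _ ⟨u, hu, rfl⟩
      have hfu : u ∈ HensSch.dOpen πU f := fun h => hu (Ideal.mul_mem_right _ _ h)
      have hau : a ∉ PrimeSpectrum.asIdeal (πU.base u) := fun h => hu (Ideal.mul_mem_left _ _ h)
      obtain ⟨w, hw⟩ := hfV hfu
      have hwW : w ∈ V₀ := ⟨u, hfu, hw.symm⟩
      exact ⟨w, (key u hfu w hwW hw.symm).mp hau, hw⟩
    · rintro _ ⟨w, hw, rfl⟩
      obtain ⟨u, hu, huw⟩ := hgW hw
      refine ⟨u, fun h => ?_, huw⟩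
      exact (Ideal.IsPrime.mem_or_mem inferInstance h).elim hu ((key u hu w (hgW hw) huw).mpr hw)

end Groth.Agent.HensSch7
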