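import Groth.Prelude.Def_Hens2
import Groth.Agent.Hensel.HenselizationProps
import Groth.Agent.Hensel.PairBasic

/-! Invariance of pair henselisations. -/

set_option autoImplicit false
universe u

namespace Groth.Agent.HensSch7

theorem isPairHenselization_of_radical_eq {A B : Type u} [CommRing A] [CommRing B] [Algebra A B] {I I' : Ideal A}
    (h : I.radical = I'.radical) (hB : Hens2.IsPairHenselization A I B) : Hens2.IsPairHenselization A I' B := by
  have hrad : (I.map (algebraMap A B)).radical = (I'.map (algebraMap A B)).radical := by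
    have key : ∀ {P Q : Ideal A}, P.radical = Q.radical → (P.map (algebraMap A B)).radical ≤ (Q.map (algebraMap A B)).radical := by
      intro P Q hPQ
      refine Ideal.radical_le_radical_iff.mpr ((Ideal.map_mono Ideal.le_radical).trans ?_)
      rw [hPQ]
      exact Ideal.map_radical_le _
    exact le_antisymm (key h) (key h.symm)
  refine ⟨?_, fun C _ J f hC hf => ?_⟩
  · have := hB.1
    rw [← Hensel.henselianRing_radical_iff, ← hrad, Hensel.henselianRing_radical_iff]
    exact this
  · refine hB.2 C J.radical f ((Hensel.henselianRing_radical_iff J).mpr hC) ?_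
    refine (Ideal.map_mono Ideal.le_radical).trans ?_
    rw [h]
    exact (Ideal.map_radical_le f).trans (Ideal.radical_mono hf)

theorem isPairHenselization_of_ringEquiv {A B A' B' : Type u} [CommRing A] [CommRing B] [CommRing A'] [CommRing B']
    [Algebra A B] [Algebra A' B'] {I : Ideal A} {I' : Ideal A'} (e : A ≃+* A') (e' : B ≃+* B')
    (hc : ∀ a, e' (algebraMap A B a) = algebraMap A' B' (e a)) (hI : I.map (e : A →+* A') = I')
    (hB : Hens2.IsPairHenselization A I B) : Hens2.IsPairHenselization A' I' B' := by
  subst hI
  have hc' : (e' : B →+* B').comp (algebraMap A B) = (algebraMap A' B').comp (e : A →+* A') := RingHom.ext hc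
  refine ⟨?_, fun C _ J f hC hf => ?_⟩
  · have := hB.1
    rw [Ideal.map_map, ← hc', ← Ideal.map_map]
    exact Hensel.henselianRing_of_ringEquiv e' _
  · obtain ⟨g, hg, huniq⟩ := hB.2 C J (f.comp (e : A →+* A')) hC (by rw [← Ideal.map_map]; exact hf)
    refine ⟨g.comp (e'.symm : B' →+* B), ?_, fun g' hg' => ?_⟩
    · refine RingHom.ext fun a => ?_
      obtain ⟨a, rfl⟩ := e.surjective a
      show g (e'.symm (algebraMap A' B' (e a))) = f (e a)
      rw [← hc, RingEquiv.symm_apply_apply]
      exact RingHom.congr_fun hg a
    · have := huniq (g'.comp (e' : B →+* B')) (RingHom.ext fun a => by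
        show g' (e' (algebraMap A B a)) = f (e a)
        rw [hc]
        exact RingHom.congr_fun hg' (e a))
      refine RingHom.ext fun b => ?_
      obtain ⟨b, rfl⟩ := e'.surjective b
      show g' (e' b) = g (e'.symm (e' b))
      rw [RingEquiv.symm_apply_apply, ← this]
      rfl

end Groth.Agent.HensSch7
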