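import Groth.Agent.HensSch7.Sky
import Groth.Agent.QCoh.Stalk
import Mathlib.Algebra.Category.ModuleCat.Stalk
import Mathlib.RingTheory.TensorProduct.IsBaseChangePi

/-! Stalks of inverse images of modules along morphisms from locally ringed spaces to schemes. -/

set_option autoImplicit false
set_option linter.style.haveILetI false
set_option backward.isDefEq.respectTransparency false
set_option backward.isDefEq.respectTransparency.types false
universe u

open CategoryTheory CategoryTheory.Limits Opposite TopologicalSpace AlgebraicGeometry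
open scoped TensorProduct

namespace Groth.Agent.HensSch7

section Stk

variable {Z : LocallyRingedSpace.{u}}

/-- Sections of a module. -/
abbrev MSec (P : ModSite.Mod Z.sheaf) (U : Opens Z) : Type u := P.val.obj (op U)

/-- The abelian presheaf underlying a module. -/
noncomputable abbrev aPsh (P : ModSite.Mod Z.sheaf) : TopCat.Presheaf AddCommGrpCat.{u} Z.toTopCat :=
  P.val.presheaf

/-- The stalk of a module. -/
noncomputable abbrev stk (P : ModSite.Mod Z.sheaf) (x : Z) : Type u := (aPsh P).stalk x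

noncomputable instance stkModule (P : ModSite.Mod Z.sheaf) (x : Z) :
    Module (Z.presheaf.stalk x : Type u) (stk P x) :=
  inferInstanceAs (Module (Z.presheaf.stalk x : Type u)
    ↑(TopCat.Presheaf.stalk (PresheafOfModules.presheaf
      (R := Z.presheaf ⋙ forget₂ CommRingCat RingCat.{u}) P.val) x))

/-- Germs of sections of a module. -/
noncomputable def mgerm (P : ModSite.Mod Z.sheaf) {U : Opens Z} (x : Z) (hx : x ∈ U) :
    MSec P U →+ stk P x := ((aPsh P).germ U x hx).hom

theorem mgerm_smul (P : ModSite.Mod Z.sheaf) {U : Opens Z} (x : Z) (hx : x ∈ U)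
    (r : (Z.presheaf.obj (op U) : Type u)) (m : MSec P U) :
    mgerm P x hx (r • m) = (Z.presheaf.germ U x hx r : (Z.presheaf.stalk x : Type u)) • mgerm P x hx m :=
  PresheafOfModules.germ_smul (R := Z.presheaf) (M := P.val) x U hx r m

/-- Restriction of sections of a module. -/
noncomputable def mres (P : ModSite.Mod Z.sheaf) {U V : Opens Z} (h : V ≤ U) : MSec P U →+ MSec P V :=
  ((aPsh P).map (homOfLE h).op).hom

theorem mgerm_mres (P : ModSite.Mod Z.sheaf) {U V : Opens Z} (h : V ≤ U) (x : Z) (hx : x ∈ V) (m : MSec P U) :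
    mgerm P x hx (mres P h m) = mgerm P x (h hx) m :=
  (aPsh P).germ_res_apply (homOfLE h) x hx m

theorem exists_mgerm (P : ModSite.Mod Z.sheaf) (x : Z) (t : stk P x) :
    ∃ (U : Opens Z) (hx : x ∈ U) (m : MSec P U), mgerm P x hx m = t :=
  (aPsh P).exists_germ_eq t

theorem exists_mres_eq {P : ModSite.Mod Z.sheaf} {U : Opens Z} {x : Z} {hx : x ∈ U} {m m' : MSec P U}
    (h : mgerm P x hx m = mgerm P x hx m') :
    ∃ (W : Opens Z) (hW : W ≤ U), x ∈ W ∧ mres P hW m = mres P hW m' := by
  obtain ⟨W, hxW, i, j, hij⟩ := (aPsh P).germ_eq x hx hx m m' h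
  exact ⟨W, i.le, hxW, hij⟩

theorem msection_ext (P : ModSite.Mod Z.sheaf) {U : Opens Z} (m m' : MSec P U)
    (h : ∀ (x : Z) (hx : x ∈ U), mgerm P x hx m = mgerm P x hx m') : m = m' :=
  TopCat.Presheaf.section_ext (⟨aPsh P, P.isSheaf⟩ : TopCat.Sheaf AddCommGrpCat.{u} Z.toTopCat) U m m' h

/-- Sections of a morphism of modules. -/
abbrev happ {P Q : ModSite.Mod Z.sheaf} (γ : P ⟶ Q) (U : Opens Z) : MSec P U → MSec Q U :=
  fun m => (γ.val.app (op U)).hom m

theorem happ_mres {P Q : ModSite.Mod Z.sheaf} (γ : P ⟶ Q) {U V : Opens Z} (h : V ≤ U) (m : MSec P U) :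
    happ γ V (mres P h m) = mres Q h (happ γ U m) :=
  PresheafOfModules.naturality_apply γ.val (homOfLE h).op m

/-- The map on stalks of a morphism of modules. -/
noncomputable def stkMap {P Q : ModSite.Mod Z.sheaf} (γ : P ⟶ Q) (x : Z) : stk P x →+ stk Q x :=
  ((TopCat.Presheaf.stalkFunctor AddCommGrpCat.{u} x).map
    ((PresheafOfModules.toPresheaf _).map γ.val)).hom

theorem stkMap_mgerm {P Q : ModSite.Mod Z.sheaf} (γ : P ⟶ Q) {U : Opens Z} (x : Z) (hx : x ∈ U)
    (m : MSec P U) : stkMap γ x (mgerm P x hx m) = mgerm Q x hx (happ γ U m) :=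
  TopCat.Presheaf.stalkFunctor_map_germ_apply U x hx ((PresheafOfModules.toPresheaf _).map γ.val) m

theorem stkMap_smul {P Q : ModSite.Mod Z.sheaf} (γ : P ⟶ Q) (x : Z) (t : (Z.presheaf.stalk x : Type u))
    (m : stk P x) : stkMap γ x (t • m) = t • stkMap γ x m := by
  obtain ⟨U, hxU, r, rfl⟩ := Z.presheaf.exists_germ_eq t
  obtain ⟨V, hxV, n, rfl⟩ := exists_mgerm P x m
  have hx : x ∈ U ⊓ V := ⟨hxU, hxV⟩
  rw [← Z.presheaf.germ_res_apply (homOfLE (inf_le_left : U ⊓ V ≤ U)) x hx r,
    ← mgerm_mres P (inf_le_right : U ⊓ V ≤ V) x hx n]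
  erw [← mgerm_smul, stkMap_mgerm, stkMap_mgerm, ← mgerm_smul]
  congr 1
  exact (γ.val.app (op (U ⊓ V))).hom.map_smul _ _

/-- The morphism to a skyscraper given by a linear map out of the stalk. -/
noncomputable def skyMap (P : ModSite.Mod Z.sheaf) (x : Z) (N : ModuleCat.{u} (Z.presheaf.stalk x))
    (c : stk P x →ₗ[(Z.presheaf.stalk x : Type u)] N) : P ⟶ sky x N :=
  ⟨{ app := fun V => ModuleCat.ofHom (Y := (sky x N).val.obj V)
      { toFun := fun m h => c (mgerm P x h.down m)
        map_add' := fun a b => funext fun h => by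
          show c (mgerm P x h.down (a + b)) = _
          rw [map_add, map_add]; rfl
        map_smul' := fun r m => funext fun h => by
          show c (mgerm P x h.down (r • m)) = _
          erw [mgerm_smul, map_smul]; rfl }
     naturality := fun {V W} i => ModuleCat.hom_ext (LinearMap.ext fun m => funext fun h => by
      exact congrArg c ((aPsh P).germ_res_apply i.unop x h.down m)) }⟩

theorem skyMap_app (P : ModSite.Mod Z.sheaf) (x : Z) (N : ModuleCat.{u} (Z.presheaf.stalk x))
    (c : stk P x →ₗ[(Z.presheaf.stalk x : Type u)] N) (V : Opens Z) (hx : x ∈ V) (m : MSec P V) :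
    (happ (skyMap P x N c) V m) (⟨hx⟩ : PLift (x ∈ V)) = c (mgerm P x hx m) := rfl

end Stk

section Pull

variable {X : Scheme.{u}} {Xh : LocallyRingedSpace.{u}} (ι : Xh ⟶ X.toLocallyRingedSpace) (F : X.Modules)
  (x : Xh)

/-- The local ring of the scheme at the image. -/
abbrev SS : Type u := X.presheaf.stalk (ι.base x)

/-- The local ring at the point. -/
abbrev TT (Z : LocallyRingedSpace.{u}) (z : Z) : Type u := Z.presheaf.stalk z

/-- The stalk map as an algebra. -/
noncomputable abbrev stAlg : Algebra (SS ι x) (TT Xh x) := (ι.stalkMap x).hom.toAlgebra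

/-- The stalk of the module at the image. -/
abbrev FF : Type u := F.presheaf.stalk (ι.base x)

/-- The inverse image module. -/
noncomputable abbrev pl : ModSite.Mod Xh.sheaf := (HensSch.pullMod ι).obj F

/-- The unit on sections. -/
noncomputable def eta (U : X.Opens) : Γ(F, U) →+ MSec (pl ι F) ((Opens.map ι.base).obj U) :=
  (((HensSch.pullPushAdj ι).unit.app F).val.app (op U)).hom.toAddMonoidHom

theorem eta_smul (U : X.Opens) (r : Γ(X, U)) (g : Γ(F, U)) :
    eta ι F U (r • g) =
      (show (Xh.presheaf.obj (op ((Opens.map ι.base).obj U)) : Type u) from ι.c.app (op U) r) • eta ι F U g :=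
  (((HensSch.pullPushAdj ι).unit.app F).val.app (op U)).hom.map_smul r g

theorem eta_map {U V : X.Opens} (h : V ≤ U) (g : Γ(F, U)) :
    eta ι F V (F.presheaf.map (homOfLE h).op g) = mres (pl ι F) ((Opens.map ι.base).map (homOfLE h)).le (eta ι F U g) :=
  PresheafOfModules.naturality_apply ((HensSch.pullPushAdj ι).unit.app F).val (homOfLE h).op g

/-- The unit on stalks. -/
noncomputable def etaX : FF ι F x →+ stk (pl ι F) x :=
  ((TopCat.Presheaf.stalkFunctor AddCommGrpCat.{u} (ι.base x)).map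
      (show F.presheaf ⟶ (TopCat.Presheaf.pushforward AddCommGrpCat.{u} ι.base).obj (aPsh (pl ι F)) from
        (PresheafOfModules.toPresheaf _).map ((HensSch.pullPushAdj ι).unit.app F).val) ≫
    TopCat.Presheaf.stalkPushforward AddCommGrpCat.{u} ι.base (aPsh (pl ι F)) x).hom

theorem etaX_germ (U : X.Opens) (hx : ι.base x ∈ U) (g : Γ(F, U)) :
    etaX ι F x (F.presheaf.germ U (ι.base x) hx g) = mgerm (pl ι F) x (U := (Opens.map ι.base).obj U) hx (eta ι F U g) := by
  refine (congrArg (fun z => (TopCat.Presheaf.stalkPushforward AddCommGrpCat.{u} ι.base (aPsh (pl ι F)) x).hom z)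
    (TopCat.Presheaf.stalkFunctor_map_germ_apply U (ι.base x) hx
      (show F.presheaf ⟶ (TopCat.Presheaf.pushforward AddCommGrpCat.{u} ι.base).obj (aPsh (pl ι F)) from
        (PresheafOfModules.toPresheaf _).map ((HensSch.pullPushAdj ι).unit.app F).val) g)).trans ?_
  exact TopCat.Presheaf.stalkPushforward_germ_apply AddCommGrpCat.{u} ι.base (aPsh (pl ι F)) U x hx _

theorem etaX_smul (r : SS ι x) (g : FF ι F x) :
    etaX ι F x (r • g) = (show TT Xh x from ι.stalkMap x r) • etaX ι F x g := by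
  obtain ⟨U, hU, a, rfl⟩ := X.presheaf.exists_germ_eq r
  obtain ⟨V, hV, b, rfl⟩ := TopCat.Presheaf.exists_germ_eq F.presheaf g
  have hx : ι.base x ∈ U ⊓ V := ⟨hU, hV⟩
  rw [← X.presheaf.germ_res_apply (homOfLE (inf_le_left : U ⊓ V ≤ U)) (ι.base x) hx a,
    ← TopCat.Presheaf.germ_res_apply F.presheaf (homOfLE (inf_le_right : U ⊓ V ≤ V)) (ι.base x) hx b,
    ← QCoh.germ_smul', etaX_germ, etaX_germ, eta_smul, mgerm_smul]
  congr 1
  exact (PresheafedSpace.stalkMap_germ_apply ι.toHom (U ⊓ V) x hx _).symm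

/-- The comparison `T ⊗ F_y → (ι^* F)_x`. -/
noncomputable def phi : letI := stAlg ι x; TT Xh x ⊗[SS ι x] FF ι F x →ₗ[TT Xh x] stk (pl ι F) x :=
  letI := stAlg ι x
  letI : Module (SS ι x) (stk (pl ι F) x) := Module.compHom _ (algebraMap (SS ι x) (TT Xh x))
  haveI : IsScalarTower (SS ι x) (TT Xh x) (stk (pl ι F) x) :=
    IsScalarTower.of_algebraMap_smul fun _ _ => rfl
  LinearMap.liftBaseChange (TT Xh x)
    ({ toFun := etaX ι F x, map_add' := map_add _, map_smul' := etaX_smul ι F x } : FF ι F x →ₗ[SS ι x] stk (pl ι F) x)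

theorem phi_tmul (t : TT Xh x) (g : FF ι F x) :
    letI := stAlg ι x; phi ι F x (t ⊗ₜ g) = t • etaX ι F x g := by
  letI := stAlg ι x
  letI : Module (SS ι x) (stk (pl ι F) x) := Module.compHom _ (algebraMap (SS ι x) (TT Xh x))
  haveI : IsScalarTower (SS ι x) (TT Xh x) (stk (pl ι F) x) :=
    IsScalarTower.of_algebraMap_smul fun _ _ => rfl
  exact LinearMap.liftBaseChange_tmul (A := TT Xh x)
    (l := ({ toFun := etaX ι F x, map_add' := map_add _, map_smul' := etaX_smul ι F x } :
      FF ι F x →ₗ[SS ι x] stk (pl ι F) x)) t g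

/-- The adjoint of the map to the skyscraper of `T ⊗ F_y`. -/
noncomputable def psi : letI := stAlg ι x;
    pl ι F ⟶ sky x (ModuleCat.of (TT Xh x) (TT Xh x ⊗[SS ι x] FF ι F x)) :=
  letI := stAlg ι x
  ((HensSch.pullPushAdj ι).homEquiv _ _).symm
    ⟨{ app := fun V => ModuleCat.ofHom
          (Y := ((HensSch.pushMod ι).obj (sky x (ModuleCat.of (TT Xh x) (TT Xh x ⊗[SS ι x] FF ι F x)))).val.obj V)
        { toFun := fun m h => (1 : TT Xh x) ⊗ₜ[SS ι x] (F.presheaf.germ V.unop (ι.base x) h.down m : FF ι F x)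
          map_add' := fun a b => funext fun h => by
            show (1 : TT Xh x) ⊗ₜ[SS ι x] (F.presheaf.germ V.unop (ι.base x) h.down (a + b) : FF ι F x) = _
            rw [map_add, TensorProduct.tmul_add]
            rfl
          map_smul' := fun r m => funext fun h => by
            show (1 : TT Xh x) ⊗ₜ[SS ι x] (F.presheaf.germ V.unop (ι.base x) h.down (r • m) : FF ι F x) =
              (Xh.presheaf.germ ((Opens.map ι.base).obj V.unop) x h.down (ι.c.app V r) : TT Xh x) •
                ((1 : TT Xh x) ⊗ₜ[SS ι x] (F.presheaf.germ V.unop (ι.base x) h.down m : FF ι F x))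
            rw [QCoh.germ_smul', TensorProduct.smul_tmul', smul_eq_mul, mul_one, ← TensorProduct.smul_tmul,
              Algebra.smul_def, mul_one]
            congr 1
            exact PresheafedSpace.stalkMap_germ_apply ι.toHom V.unop x h.down r }
       naturality := fun {V W} i => ModuleCat.hom_ext (LinearMap.ext fun m => funext fun h => by
        show (1 : TT Xh x) ⊗ₜ[SS ι x] (F.presheaf.germ W.unop (ι.base x) h.down (F.presheaf.map i m) : FF ι F x) =
          (1 : TT Xh x) ⊗ₜ[SS ι x] (F.presheaf.germ V.unop (ι.base x) (i.unop.le h.down) m : FF ι F x)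
        exact congrArg _ (F.presheaf.germ_res_apply i.unop (ι.base x) h.down m)) }⟩

/-- Values of the adjoint at the point. -/
noncomputable def psiV {V : Opens Xh} (hx : x ∈ V) : letI := stAlg ι x;
    MSec (pl ι F) V →+ TT Xh x ⊗[SS ι x] FF ι F x :=
  letI := stAlg ι x
  { toFun := fun m => (happ (psi ι F x) V m) (⟨hx⟩ : PLift (x ∈ V))
    map_zero' := congrArg (fun f => f (⟨hx⟩ : PLift (x ∈ V))) (map_zero ((psi ι F x).val.app (op V)).hom)
    map_add' := fun a b => congrArg (fun f => f (⟨hx⟩ : PLift (x ∈ V))) (map_add ((psi ι F x).val.app (op V)).hom a b) }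

theorem psiV_mres {V W : Opens Xh} (h : W ≤ V) (hx : x ∈ W) (m : MSec (pl ι F) V) :
    psiV ι F x hx (mres (pl ι F) h m) = psiV ι F x (h hx) m :=
  congrArg (fun f => f (⟨hx⟩ : PLift (x ∈ W))) (happ_mres (psi ι F x) h m)

theorem psiV_smul {V : Opens Xh} (hx : x ∈ V) (r : (Xh.presheaf.obj (op V) : Type u)) (m : MSec (pl ι F) V) :
    psiV ι F x hx (r • m) = (Xh.presheaf.germ V x hx r : TT Xh x) • psiV ι F x hx m :=
  congrArg (fun f => f (⟨hx⟩ : PLift (x ∈ V))) (((psi ι F x).val.app (op V)).hom.map_smul r m)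

theorem psi_eta (U : X.Opens) (hx : ι.base x ∈ U) (g : Γ(F, U)) :
    letI := stAlg ι x
    psiV ι F x (V := (Opens.map ι.base).obj U) hx (eta ι F U g) =
      (1 : TT Xh x) ⊗ₜ[SS ι x] (F.presheaf.germ U (ι.base x) hx g : FF ι F x) := by
  letI := stAlg ι x
  exact congrArg (fun φ => ((φ.val.app (op U)).hom g) (⟨hx⟩ : PLift (x ∈ (Opens.map ι.base).obj U)))
    ((Adjunction.homEquiv_unit ..).symm.trans (Equiv.apply_symm_apply ((HensSch.pullPushAdj ι).homEquiv F
      (sky x (ModuleCat.of (TT Xh x) (TT Xh x ⊗[SS ι x] FF ι F x)))) _))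

theorem surjective_phi : letI := stAlg ι x; Function.Surjective (phi ι F x) := by
  letI := stAlg ι x
  let R : Submodule (TT Xh x) (stk (pl ι F) x) := LinearMap.range (phi ι F x)
  let N : ModuleCat.{u} (Xh.presheaf.stalk x) := ModuleCat.of (TT Xh x) (stk (pl ι F) x ⧸ R)
  let c : stk (pl ι F) x →ₗ[TT Xh x] N := R.mkQ
  have h0 : skyMap (pl ι F) x N c = 0 := by
    apply ((HensSch.pullPushAdj ι).homEquiv _ _).injective
    rw [Adjunction.homEquiv_unit, Adjunction.homEquiv_unit]
    haveI : (HensSch.pushMod ι).PreservesZeroMorphisms := inferInstance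
    rw [Functor.map_zero, comp_zero]
    refine SheafOfModules.hom_ext (PresheafOfModules.hom_ext fun U => ModuleCat.hom_ext (LinearMap.ext fun g =>
      funext fun h => ?_))
    show c (mgerm (pl ι F) x (U := (Opens.map ι.base).obj U.unop) h.down (eta ι F U.unop g)) = 0
    erw [← etaX_germ]
    refine (Submodule.Quotient.mk_eq_zero R).mpr ⟨(1 : TT Xh x) ⊗ₜ (F.presheaf.germ U.unop (ι.base x) h.down g), ?_⟩
    rw [phi_tmul, one_smul]
  intro t
  obtain ⟨U, hx, m, rfl⟩ := exists_mgerm (pl ι F) x t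
  have h1 := skyMap_app (pl ι F) x N c U hx m
  rw [h0] at h1
  exact (Submodule.Quotient.mk_eq_zero R).mp h1.symm

theorem exists_rep (w : letI := stAlg ι x; TT Xh x ⊗[SS ι x] FF ι F x) :
    letI := stAlg ι x
    ∃ (V : Opens Xh) (hx : x ∈ V) (m : MSec (pl ι F) V), mgerm (pl ι F) x hx m = phi ι F x w ∧
      psiV ι F x hx m = w := by
  letI := stAlg ι x
  induction w using TensorProduct.induction_on with
  | zero => exact ⟨⊤, trivial, 0, by rw [map_zero, map_zero], map_zero _⟩
  | tmul t g =>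
    obtain ⟨W, hW, a, rfl⟩ := Xh.presheaf.exists_germ_eq t
    obtain ⟨U, hU, g, rfl⟩ := TopCat.Presheaf.exists_germ_eq F.presheaf g
    let V : Opens Xh := W ⊓ (Opens.map ι.base).obj U
    have hx : x ∈ V := ⟨hW, hU⟩
    refine ⟨V, hx, (Xh.presheaf.map (homOfLE (inf_le_left : V ≤ W)).op a : (Xh.presheaf.obj (op V) : Type u)) •
      mres (pl ι F) (inf_le_right : V ≤ (Opens.map ι.base).obj U) (eta ι F U g), ?_, ?_⟩
    · rw [mgerm_smul, mgerm_mres, Xh.presheaf.germ_res_apply, phi_tmul, etaX_germ]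
    · rw [psiV_smul, psiV_mres, psi_eta, Xh.presheaf.germ_res_apply, TensorProduct.smul_tmul', smul_eq_mul, mul_one]
  | add w₁ w₂ h₁ h₂ =>
    obtain ⟨V₁, hx₁, m₁, e₁, f₁⟩ := h₁
    obtain ⟨V₂, hx₂, m₂, e₂, f₂⟩ := h₂
    refine ⟨V₁ ⊓ V₂, ⟨hx₁, hx₂⟩, mres (pl ι F) inf_le_left m₁ + mres (pl ι F) inf_le_right m₂, ?_, ?_⟩
    · rw [map_add, mgerm_mres, mgerm_mres, e₁, e₂, map_add]
    · rw [map_add, psiV_mres, psiV_mres, f₁, f₂]

theorem injective_phi : letI := stAlg ι x; Function.Injective (phi ι F x) := by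
  letI := stAlg ι x
  rw [injective_iff_map_eq_zero]
  intro w hw
  obtain ⟨V, hx, m, e, f⟩ := exists_rep ι F x w
  rw [hw, ← map_zero (mgerm (pl ι F) x hx)] at e
  obtain ⟨W, hWV, hxW, hW⟩ := exists_mres_eq e
  have h1 := congrArg (psiV ι F x hxW) hW
  rw [psiV_mres, psiV_mres, map_zero] at h1
  exact f.symm.trans h1

/-- Naturality of the comparison. -/
theorem phi_natural {G : X.Modules} (f : F ⟶ G) (l : letI := stAlg ι x; FF ι F x →ₗ[SS ι x] FF ι G x)
    (hl : ∀ (U : X.Opens) (hU : ι.base x ∈ U) (g : Γ(F, U)),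
      l (F.presheaf.germ U (ι.base x) hU g) = G.presheaf.germ U (ι.base x) hU (f.app U g)) :
    letI := stAlg ι x
    ∀ w, stkMap ((HensSch.pullMod ι).map f) x (phi ι F x w) = phi ι G x (l.baseChange (TT Xh x) w) := by
  letI := stAlg ι x
  intro w
  induction w using TensorProduct.induction_on with
  | zero => simp
  | tmul t g =>
    obtain ⟨U, hU, g, rfl⟩ := TopCat.Presheaf.exists_germ_eq F.presheaf g
    rw [phi_tmul, stkMap_smul, LinearMap.baseChange_tmul, phi_tmul, hl, etaX_germ, etaX_germ, stkMap_mgerm]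
    refine congrArg (fun m => t • mgerm (pl ι G) x (U := (Opens.map ι.base).obj U) hU m) ?_
    exact congrArg (fun φ => (φ.val.app (op U)).hom g) ((HensSch.pullPushAdj ι).unit.naturality f).symm
  | add a b ha hb => simp only [map_add, ha, hb]

end Pull

end Groth.Agent.HensSch7
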