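import Mathlib.Geometry.RingedSpace.OpenImmersion
import Mathlib.RingTheory.Henselian

/-! Elementary facts on sections of locally ringed spaces. -/

set_option autoImplicit false
universe u

open CategoryTheory Opposite TopologicalSpace AlgebraicGeometry

namespace Groth.Agent.HensSch7

variable {X Y Z : LocallyRingedSpace.{u}}

/-- Sections over an open. -/
abbrev Sec (X : LocallyRingedSpace.{u}) (U : Opens X) : Type u := X.presheaf.obj (op U)

/-- Restriction. -/
noncomputable def res {U V : Opens X} (h : V ≤ U) : Sec X U →+* Sec X V :=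
  (X.presheaf.map (homOfLE h).op).hom

theorem res_res {U V W : Opens X} (h : V ≤ U) (h' : W ≤ V) (s : Sec X U) :
    res h' (res h s) = res (h'.trans h) s := by
  show X.presheaf.map (homOfLE h').op (X.presheaf.map (homOfLE h).op s) = _
  rw [← CategoryTheory.comp_apply, ← X.presheaf.map_comp]
  rfl

theorem res_self {U : Opens X} (h : U ≤ U) (s : Sec X U) : res h s = s := by
  show X.presheaf.map (homOfLE h).op s = s
  rw [show (homOfLE h).op = 𝟙 (op U) from rfl, X.presheaf.map_id]
  rfl

theorem res_comp {U V W : Opens X} (h : V ≤ U) (h' : W ≤ V) : (res h').comp (res h) = res (h'.trans h) :=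
  RingHom.ext fun s => res_res h h' s

theorem isUnit_germ_res {U V : Opens X} (h : V ≤ U) {x : X} (hx : x ∈ V) (s : Sec X U) :
    IsUnit (X.presheaf.germ V x hx (res h s)) ↔ IsUnit (X.presheaf.germ U x (h hx) s) := by
  rw [show X.presheaf.germ V x hx (res h s) = X.presheaf.germ U x (h hx) s from
    X.presheaf.germ_res_apply _ _ _ _]

/-- Pullback of sections. -/
noncomputable def app (g : X ⟶ Y) (U : Opens Y) : Sec Y U →+* Sec X ((Opens.map g.base).obj U) :=
  (g.c.app (op U)).hom

theorem app_res (g : X ⟶ Y) {U V : Opens Y} (h : V ≤ U) (s : Sec Y U) :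
    app g V (res h s) =
      res (show (Opens.map g.base).obj V ≤ (Opens.map g.base).obj U from fun _ hx => h hx) (app g U s) :=
  congr($(g.c.naturality (homOfLE h).op) s)

theorem app_comp (f : X ⟶ Y) (g : Y ⟶ Z) (U : Opens Z) (s : Sec Z U) :
    app (f ≫ g) U s = app f ((Opens.map g.base).obj U) (app g U s) := rfl

theorem isUnit_germ_app (g : X ⟶ Y) {U : Opens Y} {x : X} (hx : g.base x ∈ U) (s : Sec Y U) :
    IsUnit (X.presheaf.germ ((Opens.map g.base).obj U) x hx (app g U s)) ↔
      IsUnit (Y.presheaf.germ U (g.base x) hx s) := by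
  have h : X.presheaf.germ ((Opens.map g.base).obj U) x hx (app g U s) =
      (g.stalkMap x) (Y.presheaf.germ U (g.base x) hx s) :=
    (PresheafedSpace.stalkMap_germ_apply g.toHom U x hx s).symm
  rw [h]
  exact isUnit_map_iff (g.stalkMap x).hom _

/-- Pullback of sections to a smaller open. -/
noncomputable def appLE (g : X ⟶ Y) (U : Opens Y) (V : Opens X) (h : V ≤ (Opens.map g.base).obj U) :
    Sec Y U →+* Sec X V :=
  (res h).comp (app g U)

theorem appLE_res (g : X ⟶ Y) {U U' : Opens Y} (hU : U' ≤ U) {V : Opens X} (h : V ≤ (Opens.map g.base).obj U')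
    (s : Sec Y U) : appLE g U' V h (res hU s) = appLE g U V (fun _ hx => hU (h hx)) s := by
  show res h (app g U' (res hU s)) = _
  rw [app_res, res_res]
  rfl

theorem res_appLE (g : X ⟶ Y) {U : Opens Y} {V V' : Opens X} (h : V ≤ (Opens.map g.base).obj U) (hV : V' ≤ V)
    (s : Sec Y U) : res hV (appLE g U V h s) = appLE g U V' (hV.trans h) s :=
  res_res h hV _

theorem isUnit_germ_appLE (g : X ⟶ Y) {U : Opens Y} {V : Opens X} (h : V ≤ (Opens.map g.base).obj U) {x : X}
    (hx : x ∈ V) (s : Sec Y U) :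
    IsUnit (X.presheaf.germ V x hx (appLE g U V h s)) ↔ IsUnit (Y.presheaf.germ U (g.base x) (h hx) s) :=
  (isUnit_germ_res h hx _).trans (isUnit_germ_app g (h hx) s)

/-- The sections which vanish at every point of `S`. -/
noncomputable def van (X : LocallyRingedSpace.{u}) (U : Opens X) (S : Set X) : Ideal (Sec X U) :=
  ⨅ (x : X) (hx : x ∈ U) (_ : x ∈ S), (IsLocalRing.maximalIdeal (X.presheaf.stalk x)).comap
    (X.presheaf.germ U x hx).hom

theorem mem_van {U : Opens X} {S : Set X} {s : Sec X U} :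
    s ∈ van X U S ↔ ∀ (x : X) (hx : x ∈ U), x ∈ S → ¬ IsUnit (X.presheaf.germ U x hx s) := by
  simp only [van, Submodule.mem_iInf, Ideal.mem_comap, IsLocalRing.mem_maximalIdeal, mem_nonunits_iff]

theorem map_appLE_van (g : X ⟶ Y) {S : Set Y} (hS : Set.range g.base ⊆ S) {U : Opens Y} {V : Opens X}
    (h : V ≤ (Opens.map g.base).obj U) :
    (van Y U S).map (appLE g U V h) ≤ van X V Set.univ := by
  refine Ideal.map_le_iff_le_comap.mpr fun s hs => mem_van.mpr fun x hx _ hu => ?_
  exact mem_van.mp hs (g.base x) (h hx) (hS ⟨x, rfl⟩) ((isUnit_germ_appLE g h hx s).mp hu)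

/-- Separation. -/
theorem sec_ext {V : Opens X} (s t : Sec X V)
    (h : ∀ x ∈ V, ∃ (W : Opens X) (hW : W ≤ V), x ∈ W ∧ res hW s = res hW t) : s = t := by
  choose W hW hxW hst using h
  refine X.sheaf.eq_of_locally_eq' (fun x : V => W x.1 x.2) V (fun x => homOfLE (hW x.1 x.2)) ?_ s t fun x => hst x.1 x.2
  exact fun x hx => Opens.mem_iSup.mpr ⟨⟨x, hx⟩, hxW x hx⟩

end Groth.Agent.HensSch7
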