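import Groth.Prelude.Def_HensSch
import Mathlib.Topology.Sheaves.SheafCondition.UniqueGluing
import Mathlib.Algebra.Category.ModuleCat.ChangeOfRings

/-! Skyscraper modules on locally ringed spaces and maps into their direct images. -/

set_option autoImplicit false
universe u

open CategoryTheory CategoryTheory.Limits Opposite TopologicalSpace AlgebraicGeometry

namespace Groth.Agent.HensSch7

variable {Z : LocallyRingedSpace.{u}} (y : Z) (N : ModuleCat.{u} (Z.presheaf.stalk y))

/-- `N` as a module over the sections on `U ∋ y`. -/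
noncomputable abbrev skyFiber (U : Opens Z) (hU : y ∈ U) :
    ModuleCat.{u} ((Z.sheaf.obj ⋙ forget₂ CommRingCat RingCat.{u}).obj (op U)) :=
  (ModuleCat.restrictScalars (Z.presheaf.germ U y hU).hom).obj N

/-- The sections of the skyscraper presheaf. -/
noncomputable abbrev skyObj (U : (Opens Z)ᵒᵖ) :
    ModuleCat.{u} ((Z.sheaf.obj ⋙ forget₂ CommRingCat RingCat.{u}).obj U) :=
  ModuleCat.of _ (∀ h : PLift (y ∈ U.unop), skyFiber y N U.unop h.down)

/-- The skyscraper presheaf of modules. -/
noncomputable def skyP : PresheafOfModules.{u} (ModSite.ringSh Z.sheaf).obj where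
  obj := skyObj y N
  map {U V} i := ModuleCat.ofHom
    (Y := (ModuleCat.restrictScalars
      ((Z.sheaf.obj ⋙ forget₂ CommRingCat RingCat.{u}).map i).hom).obj (skyObj y N V))
    { toFun := fun s h => s ⟨i.unop.le h.down⟩
      map_add' := fun _ _ => rfl
      map_smul' := fun r s => by
        funext h
        change Z.presheaf.germ U.unop y (i.unop.le h.down) r • (s ⟨i.unop.le h.down⟩ : N) =
          Z.presheaf.germ V.unop y h.down (Z.presheaf.map i r) • (s ⟨i.unop.le h.down⟩ : N)
        exact congrArg (fun t => t • (s ⟨i.unop.le h.down⟩ : N))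
          (TopCat.Presheaf.germ_res_apply Z.presheaf i.unop y h.down r).symm }
  map_id U := by
    apply ModuleCat.hom_ext
    exact LinearMap.ext fun s => rfl
  map_comp i j := by
    apply ModuleCat.hom_ext
    exact LinearMap.ext fun s => rfl

theorem isSheaf_skyP : Presheaf.IsSheaf (Opens.grothendieckTopology Z) (skyP y N).presheaf := by
  refine (TopCat.Presheaf.isSheaf_iff_isSheafUniqueGluing (C := AddCommGrpCat.{u})
    (skyP y N).presheaf).2 ?_
  intro ι U sf hsf
  classical
  refine ⟨fun h => (sf (Opens.mem_iSup.1 h.down).choose ⟨(Opens.mem_iSup.1 h.down).choose_spec⟩ : N),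
    fun i => ?_, fun s hs => ?_⟩
  · funext h
    have h' := congrArg (fun t : (skyP y N).obj _ =>
        (t (⟨(Opens.mem_iSup.1 (Opens.mem_iSup.2 ⟨i, h.down⟩ : y ∈ iSup U)).choose_spec, h.down⟩ :
          PLift (y ∈ U (Opens.mem_iSup.1 (Opens.mem_iSup.2 ⟨i, h.down⟩ : y ∈ iSup U)).choose ⊓ U i))
            : N))
      (hsf (Opens.mem_iSup.1 (Opens.mem_iSup.2 ⟨i, h.down⟩ : y ∈ iSup U)).choose i)
    exact h'
  · funext h
    exact congrArg (fun t : (skyP y N).obj _ =>
        (t ⟨(Opens.mem_iSup.1 h.down).choose_spec⟩ : N)) (hs (Opens.mem_iSup.1 h.down).choose)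

/-- The skyscraper sheaf of modules. -/
noncomputable def sky : ModSite.Mod Z.sheaf where
  val := skyP y N
  isSheaf := isSheaf_skyP y N

end Groth.Agent.HensSch7
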