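import Groth.Agent.HensSch7.SphTilde
import Groth.Agent.Hensel.PairBasic
import Mathlib.RingTheory.TensorProduct.Finite

/-! Restriction of scalars along finite maps of henselian pairs. -/

set_option autoImplicit false
set_option linter.style.haveILetI false
set_option backward.isDefEq.respectTransparency false
set_option backward.isDefEq.respectTransparency.types false
universe u

open CategoryTheory CategoryTheory.Limits Opposite TopologicalSpace AlgebraicGeometry
open scoped TensorProduct

namespace Groth.Agent.HensSch7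

attribute [local instance] secAlg secMod

theorem res_app_congr {V Z : LocallyRingedSpace.{u}} {g₁ g₂ : V ⟶ Z} (h : g₁ = g₂) (U : Opens Z) {W : Opens V}
    (h₁ : W ≤ (Opens.map g₁.base).obj U) (h₂ : W ≤ (Opens.map g₂.base).obj U) (s : Sec Z U) :
    res h₁ (app g₁ U s) = res h₂ (app g₂ U s) := by subst h; rfl

variable {A B : Type u} [CommRing A] [CommRing B] [Algebra A B] {I : Ideal A}
  {X Y : LocallyRingedSpace.{u}} {πA : X ⟶ HensSch.specLRS A} {πB : Y ⟶ HensSch.specLRS B} {φ : Y ⟶ X}
  (hφ : φ ≫ πA = πB ≫ (Spec.map (CommRingCat.ofHom (algebraMap A B))).toLRSHom)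

include hφ

theorem map_dOpen (f : A) :
    (Opens.map φ.base).obj (HensSch.dOpen πA f) = HensSch.dOpen πB (algebraMap A B f) := by
  have h : ∀ y : Y, πA.base (φ.base y) =
      PrimeSpectrum.comap (algebraMap A B) (πB.base y) := fun y => congrArg (fun g : Y ⟶ HensSch.specLRS A => g.base y) hφ
  ext y
  show f ∉ PrimeSpectrum.asIdeal (πA.base (φ.base y)) ↔ algebraMap A B f ∉ PrimeSpectrum.asIdeal (πB.base y)
  rw [h]
  rfl

theorem appLE_sphMap (f a : A) :
    appLE φ (HensSch.dOpen πA f) (HensSch.dOpen πB (algebraMap A B f)) (map_dOpen hφ f).ge (sphMap πA f a) =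
      sphMap πB (algebraMap A B f) (algebraMap A B a) := by
  rw [sphMap_eq, appLE_res, sphMap_eq]
  show res _ (app φ _ (app πA ⊤ _)) = _
  rw [← app_comp]
  refine (res_app_congr hφ ⊤ _ le_top _).trans ?_
  refine congrArg (fun t => res le_top (app πB ⊤ t)) ?_
  exact (congrArg (fun k => k.hom a) (Scheme.ΓSpecIso_inv_naturality (CommRingCat.ofHom (algebraMap A B)))).symm

variable [Module.Finite A B] [HenselianRing A I] [HenselianRing B (I.map (algebraMap A B))]
  (hX : HensSch.IsSph A I X πA) (hY : HensSch.IsSph B (I.map (algebraMap A B)) Y πB)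

include hX hY

theorem exists_rho (f : A) (N : Type u) [AddCommGroup N] [Module A N] [Module B N] [IsScalarTower A B N] :
    ∃ j : Sec X (HensSch.dOpen πA f) ⊗[A] N →+ Sec Y (HensSch.dOpen πB (algebraMap A B f)) ⊗[B] N,
      Function.Bijective j ∧ ∀ (s : Sec X (HensSch.dOpen πA f)) (n : N),
        j (s ⊗ₜ n) = appLE φ (HensSch.dOpen πA f) (HensSch.dOpen πB (algebraMap A B f)) (map_dOpen hφ f).ge s ⊗ₜ n := by
  let OA := Sec X (HensSch.dOpen πA f)
  let OB := Sec Y (HensSch.dOpen πB (algebraMap A B f))
  let ρ : OA →+* OB := appLE φ (HensSch.dOpen πA f) (HensSch.dOpen πB (algebraMap A B f)) (map_dOpen hφ f).ge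
  letI : Algebra A OB := ((sphMap πB (algebraMap A B f)).comp (algebraMap A B)).toAlgebra
  haveI : IsScalarTower A B OB := IsScalarTower.of_algebraMap_eq fun _ => rfl
  let ρA : OA →ₐ[A] OB := { ρ with commutes' := appLE_sphMap hφ f }
  let m : OA ⊗[A] B →ₐ[A] OB := Algebra.TensorProduct.lift ρA (IsScalarTower.toAlgHom A B OB) fun _ _ => Commute.all _ _
  have hmr : ∀ b : B, m ((1 : OA) ⊗ₜ[A] b) = algebraMap B OB b := fun b => by
    show ρA 1 * _ = _
    rw [map_one, one_mul]
    rfl
  have hml : ∀ a : OA, m (a ⊗ₜ[A] (1 : B)) = ρ a := fun a => by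
    show _ * IsScalarTower.toAlgHom A B OB 1 = _
    rw [map_one, mul_one]
    rfl
  have hm : Function.Bijective m := by
    let T := OA ⊗[A] B
    let iB : B →+* T := (Algebra.TensorProduct.includeRight : B →ₐ[A] T).toRingHom
    haveI : HenselianRing OA (I.map (sphMap πA f)) := (hX.2.2 f).2.1
    haveI : Algebra.IsIntegral OA T := Algebra.IsIntegral.of_finite OA T
    have hT : HenselianRing T ((I.map (sphMap πA f)).map (algebraMap OA T)) :=
      Hensel.henselianRing_of_isIntegral' _ T
    have hI : (I.map (algebraMap A B)).map iB = (I.map (sphMap πA f)).map (algebraMap OA T) := by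
      rw [Ideal.map_map, Ideal.map_map]
      refine congrArg (fun k => Ideal.map k I) (RingHom.ext fun a => ?_)
      show (1 : OA) ⊗ₜ[A] algebraMap A B a = algebraMap A OA a ⊗ₜ[A] (1 : B)
      rw [Algebra.algebraMap_eq_smul_one, Algebra.algebraMap_eq_smul_one, TensorProduct.smul_tmul]
    have hu : IsUnit (iB (algebraMap A B f)) := by
      have : iB (algebraMap A B f) = algebraMap OA T (sphMap πA f f) := by
        show (1 : OA) ⊗ₜ[A] algebraMap A B f = algebraMap A OA f ⊗ₜ[A] (1 : B)
        rw [Algebra.algebraMap_eq_smul_one, Algebra.algebraMap_eq_smul_one, TensorProduct.smul_tmul]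
      rw [this]
      exact (hX.2.2 f).1.map _
    obtain ⟨r, hr, -⟩ := (hY.2.2 (algebraMap A B f)).2.2 T _ iB hT hI.le hu
    obtain ⟨_, -, huniqB⟩ := (hY.2.2 (algebraMap A B f)).2.2 OB _ (sphMap πB (algebraMap A B f))
      (hY.2.2 (algebraMap A B f)).2.1 le_rfl (hY.2.2 (algebraMap A B f)).1
    have hmB : ∀ b, m (iB b) = sphMap πB (algebraMap A B f) b := fun b =>
      (Algebra.TensorProduct.lift_tmul _ _ _ (1 : OA) b).trans (by rw [map_one, one_mul]; rfl)
    have h1 : m.toRingHom.comp r = RingHom.id OB :=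
      (huniqB _ (show (m.toRingHom.comp r).comp (sphMap πB (algebraMap A B f)) = sphMap πB (algebraMap A B f) by
        rw [RingHom.comp_assoc, show r.comp (sphMap πB (algebraMap A B f)) = iB from hr]
        exact RingHom.ext hmB)).trans (huniqB _ (RingHom.id_comp _)).symm
    obtain ⟨_, -, huniqA⟩ := (hX.2.2 f).2.2 T _ ((algebraMap OA T).comp (sphMap πA f)) hT (by rw [Ideal.map_map])
      ((hX.2.2 f).1.map (algebraMap OA T))
    have h2L : (r.comp m.toRingHom).comp (algebraMap OA T) = algebraMap OA T := by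
      refine (huniqA _ (RingHom.ext fun a => ?_)).trans (huniqA _ rfl).symm
      show r (m ((algebraMap A OA a) ⊗ₜ[A] (1 : B))) = algebraMap A OA a ⊗ₜ[A] (1 : B)
      have e : algebraMap A OA a ⊗ₜ[A] (1 : B) = iB (algebraMap A B a) := by
        show _ = (1 : OA) ⊗ₜ[A] algebraMap A B a
        rw [Algebra.algebraMap_eq_smul_one, Algebra.algebraMap_eq_smul_one, TensorProduct.smul_tmul]
      rw [e, hmB]
      exact RingHom.congr_fun hr (algebraMap A B a)
    have h2 : ∀ t : T, r (m t) = t := by
      intro t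
      induction t using TensorProduct.induction_on with
      | zero => simp
      | tmul a b =>
        rw [show a ⊗ₜ[A] b = algebraMap OA T a * iB b from
          (show (a ⊗ₜ[A] (1 : B)) * ((1 : OA) ⊗ₜ[A] b) = a ⊗ₜ[A] b by
            rw [Algebra.TensorProduct.tmul_mul_tmul, mul_one, one_mul]).symm, map_mul, map_mul, hmB]
        exact congrArg₂ (· * ·) (RingHom.congr_fun h2L a) (RingHom.congr_fun hr b)
      | add a b ha hb => rw [map_add, map_add, ha, hb]
    exact ⟨Function.LeftInverse.injective (g := r) h2,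
      Function.RightInverse.surjective (g := r) fun b => RingHom.congr_fun h1 b⟩
  let Φ : OA ⊗[A] B →ₗ[A] N →ₗ[A] OA ⊗[A] N :=
    TensorProduct.lift (LinearMap.mk₂ A (fun a b => (TensorProduct.mk A OA N a).comp (DistribSMul.toLinearMap A N b))
      (fun a a' b => LinearMap.ext fun n => TensorProduct.add_tmul _ _ _)
      (fun c a b => LinearMap.ext fun n => (TensorProduct.smul_tmul' _ _ _).symm)
      (fun a b b' => LinearMap.ext fun n => by
        show a ⊗ₜ[A] ((b + b') • n) = a ⊗ₜ[A] (b • n) + a ⊗ₜ[A] (b' • n)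
        rw [add_smul, TensorProduct.tmul_add])
      (fun c a b => LinearMap.ext fun n => by
        show a ⊗ₜ[A] ((c • b) • n) = c • (a ⊗ₜ[A] (b • n))
        rw [smul_assoc, TensorProduct.tmul_smul]))
  let e : OA ⊗[A] B ≃ₐ[A] OB := AlgEquiv.ofBijective m hm
  have hΦ : ∀ (b : B) (t : OA ⊗[A] B) (n : N), Φ (((1 : OA) ⊗ₜ[A] b) * t) n = Φ t (b • n) := by
    intro b t n
    induction t using TensorProduct.induction_on with
    | zero => simp
    | tmul a b' =>
      rw [Algebra.TensorProduct.tmul_mul_tmul, one_mul]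
      show a ⊗ₜ[A] ((b * b') • n) = a ⊗ₜ[A] (b' • b • n)
      rw [mul_comm, mul_smul]
    | add x y hx hy => simp only [mul_add, map_add, LinearMap.add_apply, hx, hy]
  let g : OB ⊗[B] N →+ OA ⊗[A] N := TensorProduct.liftAddHom
    (AddMonoidHom.mk' (fun x => (Φ (e.symm x)).toAddMonoidHom) fun x y => AddMonoidHom.ext fun n => by
      show Φ (e.symm (x + y)) n = Φ (e.symm x) n + Φ (e.symm y) n
      rw [map_add, map_add, LinearMap.add_apply])
    (fun b x n => by
      show Φ (e.symm (b • x)) n = Φ (e.symm x) (b • n)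
      rw [← hΦ b (e.symm x) n]
      refine congrArg (fun t => Φ t n) (e.injective ?_)
      rw [map_mul, e.apply_symm_apply, e.apply_symm_apply, Algebra.smul_def]
      refine congrArg (· * x) ?_
      exact (hmr b).symm)
  let j : OA ⊗[A] N →+ OB ⊗[B] N := TensorProduct.liftAddHom
    (AddMonoidHom.mk' (fun a => AddMonoidHom.mk' (fun n => ρ a ⊗ₜ[B] n) fun n n' => TensorProduct.tmul_add _ _ _)
      fun a a' => AddMonoidHom.ext fun n => by
        show ρ (a + a') ⊗ₜ[B] n = ρ a ⊗ₜ[B] n + ρ a' ⊗ₜ[B] n
        rw [map_add, TensorProduct.add_tmul])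
    (fun c a n => by
      show ρ (c • a) ⊗ₜ[B] n = ρ a ⊗ₜ[B] (c • n)
      rw [← algebraMap_smul B c n, ← TensorProduct.smul_tmul, algebraMap_smul]
      exact congrArg (· ⊗ₜ[B] n) (map_smul ρA c a))
  have hjg : ∀ w, j (g w) = w := by
    intro w
    induction w using TensorProduct.induction_on with
    | zero => simp
    | tmul x n =>
      show j (Φ (e.symm x) n) = x ⊗ₜ[B] n
      obtain ⟨t, rfl⟩ := e.surjective x
      rw [e.symm_apply_apply]
      induction t using TensorProduct.induction_on with
      | zero => simp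
      | tmul a b =>
        show ρ a ⊗ₜ[B] (b • n) = m (a ⊗ₜ[A] b) ⊗ₜ[B] n
        rw [← TensorProduct.smul_tmul, Algebra.smul_def, Algebra.TensorProduct.lift_tmul]
        exact congrArg (· ⊗ₜ[B] n) (mul_comm _ _)
      | add p q hp hq => simp only [map_add, LinearMap.add_apply, TensorProduct.add_tmul, hp, hq]
    | add p q hp hq => simp only [map_add, hp, hq]
  have hgj : ∀ w, g (j w) = w := by
    intro w
    induction w using TensorProduct.induction_on with
    | zero => simp
    | tmul a n =>
      show Φ (e.symm (ρ a)) n = a ⊗ₜ[A] n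
      rw [show e.symm (ρ a) = a ⊗ₜ[A] (1 : B) from e.injective (by
        rw [e.apply_symm_apply]
        exact (hml a).symm)]
      show a ⊗ₜ[A] ((1 : B) • n) = a ⊗ₜ[A] n
      rw [one_smul]
    | add p q hp hq => simp only [map_add, hp, hq]
  exact ⟨j, ⟨Function.LeftInverse.injective hgj, Function.RightInverse.surjective hjg⟩, fun _ _ => rfl⟩

theorem exists_iso_restrictScalars (N : ModuleCat.{u} B) :
    ∃ e : pl (X := Spec (CommRingCat.of A)) πA (tM ((ModuleCat.restrictScalars (algebraMap A B)).obj N)) ≅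
        (HensSch.pushMod φ).obj (pl (X := Spec (CommRingCat.of B)) πB (tM N)),
      ∀ n : N, happ e.hom ((Opens.map πA.base).obj ⊤)
          (eta (X := Spec (CommRingCat.of A)) πA (tM ((ModuleCat.restrictScalars (algebraMap A B)).obj N)) ⊤
            ((tilde.toOpen (R := CommRingCat.of A) ((ModuleCat.restrictScalars (algebraMap A B)).obj N) ⊤).hom n)) =
        eta (X := Spec (CommRingCat.of B)) πB (tM N) ⊤ ((tilde.toOpen (R := CommRingCat.of B) N ⊤).hom n) := by
  let MA : ModuleCat.{u} (CommRingCat.of A) := (ModuleCat.restrictScalars (algebraMap A B)).obj N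
  let Q := pl (X := Spec (CommRingCat.of B)) πB (tM N)
  let R : ModSite.Mod X.sheaf := (HensSch.pushMod φ).obj Q
  let u₀ : N → MSec Q ((Opens.map πB.base).obj ⊤) := fun n =>
    eta (X := Spec (CommRingCat.of B)) πB (tM N) ⊤ ((tilde.toOpen (R := CommRingCat.of B) N ⊤).hom n)
  let t : MA ⟶ (moduleSpecΓFunctor (R := CommRingCat.of A)).obj
      (((HensSch.pushMod πA).obj R : (Spec (CommRingCat.of A)).Modules)) := ModuleCat.ofHom (X := (MA : Type u))
    (Y := (moduleSpecΓFunctor (R := CommRingCat.of A)).obj
      (((HensSch.pushMod πA).obj R : (Spec (CommRingCat.of A)).Modules)))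
    { toFun := fun n => u₀ n
      map_add' := fun n n' => by
        show u₀ (n + n') = u₀ n + u₀ n'
        simp only [u₀]
        rw [map_add, map_add]
      map_smul' := fun a n => by
        show u₀ (algebraMap A B a • (show N from n)) =
          (show Sec Y ((Opens.map φ.base).obj ((Opens.map πA.base).obj ⊤)) from
            app φ ((Opens.map πA.base).obj ⊤) (app πA ⊤ ((Scheme.ΓSpecIso (CommRingCat.of A)).inv a))) •
              (show MSec Q ((Opens.map φ.base).obj ((Opens.map πA.base).obj ⊤)) from u₀ n)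
        simp only [u₀]
        rw [show (tilde.toOpen (R := CommRingCat.of B) N ⊤).hom (algebraMap A B a • (show N from n)) =
          (((Scheme.ΓSpecIso (CommRingCat.of B)).inv (algebraMap A B a)) : Γ(Spec (CommRingCat.of B), ⊤)) •
            (show Γ(tM N, ⊤) from (tilde.toOpen (R := CommRingCat.of B) N ⊤).hom (show N from n)) from
          (tilde.toOpen (R := CommRingCat.of B) N ⊤).hom.map_smul (algebraMap A B a) (show N from n), eta_smul]
        refine congrArg (fun r : Sec Y ((Opens.map πB.base).obj ⊤) => r • u₀ n) ?_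
        have h0 := res_app_congr hφ ⊤ (W := (Opens.map πB.base).obj ⊤) le_top le_top
          ((Scheme.ΓSpecIso (CommRingCat.of A)).inv a)
        have h1 : app φ ((Opens.map πA.base).obj ⊤) (app πA ⊤ ((Scheme.ΓSpecIso (CommRingCat.of A)).inv a)) =
            app πB ⊤ ((Spec.map (CommRingCat.ofHom (algebraMap A B))).appTop ((Scheme.ΓSpecIso (CommRingCat.of A)).inv a)) :=
          (res_self le_rfl _).symm.trans (h0.trans (res_self le_rfl _))
        refine Eq.trans ?_ h1.symm
        exact congrArg (app πB ⊤)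
          (congrArg (fun k => k.hom a) (Scheme.ΓSpecIso_inv_naturality (CommRingCat.ofHom (algebraMap A B)))) }
  let adj := HensSch.pullPushAdj πA
  let tadj := tilde.adjunction (R := CommRingCat.of A)
  let hhom : pl (X := Spec (CommRingCat.of A)) πA (tM MA) ⟶ R :=
    (adj.homEquiv (tM MA) R).symm ((tadj.homEquiv MA ((HensSch.pushMod πA).obj R)).symm t)
  have htop : ∀ n : MA, happ hhom ((Opens.map πA.base).obj ⊤)
      (eta (X := Spec (CommRingCat.of A)) πA (tM MA) ⊤ ((tilde.toOpen (R := CommRingCat.of A) MA ⊤).hom n)) = u₀ n := by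
    intro n
    have h1 := congrArg (fun g : tM MA ⟶ (HensSch.pushMod πA).obj R =>
      (g.val.app (op ⊤)).hom ((tilde.toOpen (R := CommRingCat.of A) MA ⊤).hom n))
      ((Adjunction.homEquiv_unit ..).symm.trans (Equiv.apply_symm_apply (adj.homEquiv (tM MA) R)
        ((tadj.homEquiv MA ((HensSch.pushMod πA).obj R)).symm t)))
    refine Eq.trans ?_ (h1.trans ?_)
    · rfl
    · have h2 := congrArg (fun g => g.hom n)
        ((Adjunction.homEquiv_unit ..).symm.trans (Equiv.apply_symm_apply (tadj.homEquiv MA ((HensSch.pushMod πA).obj R)) t))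
      exact h2
  have hkey : ∀ f : A, Function.Bijective (happ hhom (HensSch.dOpen πA f)) := by
    intro f
    letI : Module A N := Module.compHom N (algebraMap A B)
    haveI : IsScalarTower A B N := IsScalarTower.of_algebraMap_smul (M := N) fun _ _ => rfl
    obtain ⟨j, hj, hjv⟩ := exists_rho hφ hX hY f N
    have hU := map_dOpen hφ f
    let r : MSec R (HensSch.dOpen πA f) →+ MSec Q (HensSch.dOpen πB (algebraMap A B f)) := mres Q hU.ge
    have hr : Function.Bijective r :=
      Function.bijective_iff_has_inverse.mpr ⟨mres Q hU.le,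
        fun m => msection_ext _ _ _ fun z hz => (mgerm_mres Q _ z hz _).trans (mgerm_mres Q hU.ge z _ _),
        fun m => msection_ext _ _ _ fun z hz => (mgerm_mres Q _ z hz _).trans (mgerm_mres Q hU.le z _ _)⟩
    have hcomp : ∀ w, r (happ hhom (HensSch.dOpen πA f) (theta πA MA f w)) = theta πB N (algebraMap A B f) (j w) := by
      intro w
      induction w using TensorProduct.induction_on with
      | zero =>
        rw [map_zero, map_zero, map_zero]
        exact (congrArg r (map_zero (hhom.val.app (op (HensSch.dOpen πA f))).hom)).trans (map_zero r)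
      | tmul s n =>
        rw [hjv, theta_tmul, theta_tmul]
        have h1 : happ hhom (HensSch.dOpen πA f) (s • mu πA MA f n) = s • happ hhom (HensSch.dOpen πA f) (mu πA MA f n) :=
          (hhom.val.app (op (HensSch.dOpen πA f))).hom.map_smul s _
        rw [h1]
        refine ((Q.val.map (homOfLE hU.ge).op).hom.map_smul (app φ (HensSch.dOpen πA f) s) _).trans ?_
        show appLE φ (HensSch.dOpen πA f) (HensSch.dOpen πB (algebraMap A B f)) hU.ge s •
          mres Q hU.ge (happ hhom (HensSch.dOpen πA f) (mu πA MA f n)) = _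
        refine congrArg (fun z => appLE φ (HensSch.dOpen πA f) (HensSch.dOpen πB (algebraMap A B f)) hU.ge s • z) ?_
        show mres Q hU.ge (happ hhom (HensSch.dOpen πA f) (mu πA MA f n)) = mu πB N (algebraMap A B f) n
        simp only [mu]
        refine (congrArg (fun z => mres Q hU.ge z) ((happ_mres hhom _ _).trans
          (congrArg (mres R (le_top : HensSch.dOpen πA f ≤ (Opens.map πA.base).obj ⊤)) (htop n)))).trans ?_
        exact msection_ext _ _ _ fun z hz => ((mgerm_mres Q _ z hz _).trans
          (mgerm_mres Q _ z (hU.ge hz) (u₀ n))).trans (mgerm_mres Q (le_top : HensSch.dOpen πB (algebraMap A B f) ≤ (Opens.map πB.base).obj ⊤) z hz (u₀ n)).symm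
      | add p q hp hq =>
        rw [map_add, map_add, map_add, ← hp, ← hq, ← map_add r]
        exact congrArg r ((hhom.val.app (op (HensSch.dOpen πA f))).hom.map_add _ _)
    have hb : Function.Bijective (r ∘ happ hhom (HensSch.dOpen πA f) ∘ theta πA MA f) := by
      rw [show r ∘ happ hhom (HensSch.dOpen πA f) ∘ theta πA MA f = theta πB N (algebraMap A B f) ∘ j from funext hcomp]
      exact Function.Bijective.comp ⟨injective_theta hY _, surjective_theta hY _⟩ hj
    exact (Function.Bijective.of_comp_iff _ (⟨injective_theta hX f, surjective_theta hX f⟩ :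
      Function.Bijective (theta πA MA f))).mp ((Function.Bijective.of_comp_iff' hr _).mp hb)
  let P := pl (X := Spec (CommRingCat.of A)) πA (tM MA)
  have hstk : ∀ x : X, Function.Bijective (stkMap hhom x) := by
    intro x
    refine ⟨(injective_iff_map_eq_zero _).mpr fun z hz => ?_, fun z => ?_⟩
    · obtain ⟨U, hxU, m, rfl⟩ := exists_mgerm P x z
      rw [stkMap_mgerm, ← map_zero (mgerm R x hxU)] at hz
      obtain ⟨W, hW, hxW, hWe⟩ := exists_mres_eq hz
      obtain ⟨g, hxg, hgW⟩ := exists_dOpen hX x W hxW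
      have h0 : mres P (hgW.trans hW) m = 0 := by
        refine (hkey g).1 ?_
        rw [happ_mres]
        refine Eq.trans ?_ (map_zero (hhom.val.app (op (HensSch.dOpen πA g))).hom).symm
        refine msection_ext _ _ _ fun p hp => ?_
        have h2 := congrArg (mgerm R p (hgW hp)) hWe
        rw [mgerm_mres, mgerm_mres, map_zero] at h2
        rw [mgerm_mres, map_zero]
        exact h2
      rw [← mgerm_mres P (hgW.trans hW) x hxg, h0, map_zero]
    · obtain ⟨U, hxU, m, rfl⟩ := exists_mgerm R x z
      obtain ⟨g, hxg, hgU⟩ := exists_dOpen hX x U hxU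
      obtain ⟨w, hw⟩ := (hkey g).2 (mres R hgU m)
      exact ⟨mgerm P x hxg w, by rw [stkMap_mgerm, hw, mgerm_mres]⟩
  haveI : IsIso ((SheafOfModules.forget _).map hhom) := by
    show IsIso hhom.val
    haveI : ∀ U, IsIso (((PresheafOfModules.toPresheaf _).map hhom.val).app U) := by
      intro U
      refine (ConcreteCategory.isIso_iff_bijective _).mpr ?_
      let fh : (⟨aPsh P, P.isSheaf⟩ : TopCat.Sheaf AddCommGrpCat.{u} X.toTopCat) ⟶ ⟨aPsh R, R.isSheaf⟩ :=
        ⟨(PresheafOfModules.toPresheaf _).map hhom.val⟩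
      exact TopCat.Presheaf.app_bijective_of_stalkFunctor_map_bijective fh U.unop fun x _ => hstk x
    haveI : IsIso ((PresheafOfModules.toPresheaf _).map hhom.val) := NatIso.isIso_of_isIso_app _
    exact isIso_of_reflects_iso _ (PresheafOfModules.toPresheaf _)
  haveI : IsIso hhom := isIso_of_fully_faithful (SheafOfModules.forget _) hhom
  exact ⟨asIso hhom, htop⟩

end Groth.Agent.HensSch7
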