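import Groth.Agent.HensSch7.Flat
import Groth.Agent.HensSch7.PairTransport

/-! Stalks of affine henselian spectra are henselisations of local rings. -/

set_option autoImplicit false
universe u

open CategoryTheory Opposite TopologicalSpace AlgebraicGeometry Topology

namespace Groth.Agent.HensSch7

variable {A : Type u} [CommRing A] {V : LocallyRingedSpace.{u}} (π : V ⟶ HensSch.specLRS A) (x : V)

/-- The germ map from `A` at `π x`. -/
noncomputable def germA : A →+* ((HensSch.specLRS A).presheaf.stalk (π.base x) : Type u) :=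
  ((HensSch.specLRS A).presheaf.germ ⊤ (π.base x) trivial).hom.comp (Scheme.ΓSpecIso (CommRingCat.of A)).inv.hom

theorem stalkMap_germA (f : A) (hx : x ∈ HensSch.dOpen π f) (a : A) :
    π.stalkMap x (germA π x a) = V.presheaf.germ (HensSch.dOpen π f) x hx (sphMap π f a) := by
  refine Eq.trans ?_ (V.presheaf.germ_res_apply
    (homOfLE (le_top : HensSch.dOpen π f ≤ (Opens.map π.base).obj ⊤)) x hx _).symm
  exact PresheafedSpace.stalkMap_germ_apply π.toHom ⊤ x trivial _

theorem res_sphMap {f g : A} (h : HensSch.dOpen π g ≤ HensSch.dOpen π f) (a : A) :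
    res h (sphMap π f a) = sphMap π g a := by
  rw [sphMap_eq, res_res]; rfl

variable {π} {I : Ideal A} (hV : HensSch.IsSph A I V π)

include hV

theorem exists_lift_finite {ι : Type} [Fintype ι] (t : ι → (V.presheaf.stalk x : Type u)) (O : Opens V) (hxO : x ∈ O) :
    ∃ (f : A) (hx : x ∈ HensSch.dOpen π f), HensSch.dOpen π f ≤ O ∧
      ∃ s : ι → Sec V (HensSch.dOpen π f), ∀ i, V.presheaf.germ _ x hx (s i) = t i := by
  classical
  choose U hxU s hs using fun i => V.presheaf.exists_germ_eq (t i)
  let O₀ : Opens V := O ⊓ Finset.univ.inf U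
  have hxO₀ : x ∈ O₀ := ⟨hxO, by
    show x ∈ ((Finset.univ.inf U : Opens V) : Set V)
    rw [Opens.coe_finset_inf]
    simp only [Finset.inf_set_eq_iInter, Function.comp_apply, Set.mem_iInter, SetLike.mem_coe]
    exact fun i _ => hxU i⟩
  obtain ⟨f, hxf, hle⟩ := exists_dOpen hV x O₀ hxO₀
  exact ⟨f, hxf, hle.trans inf_le_left, fun i => res ((hle.trans inf_le_right).trans (Finset.inf_le (Finset.mem_univ i))) (s i),
    fun i => (V.presheaf.germ_res_apply _ x hxf (s i)).trans (hs i)⟩

theorem exists_lift_mem (z : (V.presheaf.stalk x : Type u))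
    (hz : z ∈ I.map ((π.stalkMap x).hom.comp (germA π x))) :
    ∃ (f : A) (hx : x ∈ HensSch.dOpen π f), ∃ w ∈ I.map (sphMap π f), V.presheaf.germ _ x hx w = z := by
  induction hz using Submodule.span_induction with
  | mem z hz =>
    obtain ⟨a, ha, rfl⟩ := hz
    obtain ⟨f, hx, -⟩ := exists_dOpen hV x ⊤ trivial
    exact ⟨f, hx, _, Ideal.mem_map_of_mem _ ha, (stalkMap_germA π x f hx a).symm⟩
  | zero =>
    obtain ⟨f, hx, -⟩ := exists_dOpen hV x ⊤ trivial
    exact ⟨f, hx, 0, zero_mem _, map_zero _⟩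
  | add z z' _ _ h h' =>
    obtain ⟨f, hx, w, hw, rfl⟩ := h
    obtain ⟨f', hx', w', hw', rfl⟩ := h'
    obtain ⟨g, hxg, hg⟩ := exists_dOpen hV x (HensSch.dOpen π f ⊓ HensSch.dOpen π f') ⟨hx, hx'⟩
    have h1 := Ideal.mem_map_of_mem (res (hg.trans inf_le_left)) hw
    have h2 := Ideal.mem_map_of_mem (res (hg.trans inf_le_right)) hw'
    rw [Ideal.map_map, show (res (hg.trans inf_le_left)).comp (sphMap π f) = sphMap π g from
      RingHom.ext (res_sphMap π _)] at h1
    rw [Ideal.map_map, show (res (hg.trans inf_le_right)).comp (sphMap π f') = sphMap π g from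
      RingHom.ext (res_sphMap π _)] at h2
    refine ⟨g, hxg, _, add_mem h1 h2, ?_⟩
    rw [map_add]
    exact congrArg₂ (· + ·) (V.presheaf.germ_res_apply _ x hxg w) (V.presheaf.germ_res_apply _ x hxg w')
  | smul c z _ h =>
    obtain ⟨f, hx, w, hw, rfl⟩ := h
    obtain ⟨g, hxg, hg, s, hs⟩ := exists_lift_finite x hV (fun _ : Unit => c) (HensSch.dOpen π f) hx
    have h1 := Ideal.mem_map_of_mem (res hg) hw
    rw [Ideal.map_map, show (res hg).comp (sphMap π f) = sphMap π g from RingHom.ext (res_sphMap π _)] at h1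
    refine ⟨g, hxg, _, Ideal.mul_mem_left _ (s ()) h1, ?_⟩
    rw [map_mul, hs, smul_eq_mul]
    congr 1
    exact V.presheaf.germ_res_apply _ x hxg w

theorem henselianRing_stalk :
    HenselianRing (V.presheaf.stalk x : Type u) (I.map ((π.stalkMap x).hom.comp (germA π x))) := by
  classical
  refine ⟨fun z hz => ?_, fun P hP a₀ ha₀ hu => ?_⟩
  · obtain ⟨f, hx, w, hw, rfl⟩ := exists_lift_mem x hV z hz
    rw [IsLocalRing.jacobson_eq_maximalIdeal (⊥ : Ideal (V.presheaf.stalk x : Type u)) bot_ne_top,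
      IsLocalRing.mem_maximalIdeal]
    exact mem_van.mp (map_le_van hV f hw) x hx trivial
  obtain ⟨y, hy⟩ := isUnit_iff_exists_inv.mp hu
  obtain ⟨v, rfl⟩ := Ideal.Quotient.mk_surjective y
  rw [← map_mul, ← map_one (Ideal.Quotient.mk _), Ideal.Quotient.eq] at hy
  obtain ⟨f₁, hx₁, w₁, hw₁, he₁⟩ := exists_lift_mem x hV _ ha₀
  obtain ⟨f₂, hx₂, w₂, hw₂, he₂⟩ := exists_lift_mem x hV _ hy
  let n := P.natDegree
  let data : Option (Option (Fin n)) → (V.presheaf.stalk x : Type u) := fun o =>
    o.elim a₀ fun o => o.elim v fun i => P.coeff i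
  obtain ⟨f, hx, hf, s, hs⟩ := exists_lift_finite x hV data (HensSch.dOpen π f₁ ⊓ HensSch.dOpen π f₂) ⟨hx₁, hx₂⟩
  let germ := (V.presheaf.germ (HensSch.dOpen π f) x hx).hom
  let Q : Polynomial (Sec V (HensSch.dOpen π f)) :=
    Polynomial.X ^ n + ∑ i : Fin n, Polynomial.C (s (some (some i))) * Polynomial.X ^ (i : ℕ)
  have hQ : Q.map germ = P := by
    conv_rhs => rw [hP.as_sum]
    simp only [Q, Polynomial.map_add, Polynomial.map_pow, Polynomial.map_X, Polynomial.map_sum, Polynomial.map_mul,
      Polynomial.map_C]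
    rw [← Fin.sum_univ_eq_sum_range (fun i => Polynomial.C (P.coeff i) * Polynomial.X ^ i)]
    congr 1
    exact Finset.sum_congr rfl fun i _ => by rw [show germ (s (some (some i))) = P.coeff i from hs _]
  let u₁ := res (hf.trans inf_le_left) w₁
  let u₂ := res (hf.trans inf_le_right) w₂
  have hg₁ : germ u₁ = P.eval a₀ := (V.presheaf.germ_res_apply _ x hx w₁).trans he₁
  have hg₂ : germ u₂ = P.derivative.eval a₀ * v - 1 := (V.presheaf.germ_res_apply _ x hx w₂).trans he₂
  have ha : germ (s none) = a₀ := hs none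
  have hv : germ (s (some none)) = v := hs (some none)
  have e₁ : germ (Q.eval (s none) - u₁) = germ 0 := by
    rw [map_zero, map_sub, hg₁, ← Polynomial.eval₂_at_apply, ← Polynomial.eval_map, hQ, ha, sub_self]
  have e₂ : germ (Q.derivative.eval (s none) * s (some none) - 1 - u₂) = germ 0 := by
    rw [map_zero, map_sub, map_sub, map_mul, map_one, hg₂, hv, ← Polynomial.eval₂_at_apply, ← Polynomial.eval_map,
      ← Polynomial.derivative_map, hQ, ha, sub_self]
  obtain ⟨W₁, hxW₁, i₁, j₁, hW₁⟩ := V.presheaf.germ_eq x hx hx _ _ e₁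
  obtain ⟨W₂, hxW₂, i₂, j₂, hW₂⟩ := V.presheaf.germ_eq x hx hx _ _ e₂
  obtain ⟨g, hxg, hgW⟩ := exists_dOpen hV x (W₁ ⊓ W₂) ⟨hxW₁, hxW₂⟩
  have hgf : HensSch.dOpen π g ≤ HensSch.dOpen π f := (hgW.trans inf_le_left).trans i₁.le
  let r := res hgf
  have r₁ : r (Q.eval (s none)) = r u₁ := by
    have h2 := congrArg (res (hgW.trans inf_le_left)) (show res i₁.le (Q.eval (s none) - u₁) = res j₁.le 0 from hW₁)
    rw [res_res, res_res, map_zero, map_sub, sub_eq_zero] at h2
    exact h2
  have r₂ : r (Q.derivative.eval (s none) * s (some none) - 1) = r u₂ := by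
    have h2 := congrArg (res (hgW.trans inf_le_right))
      (show res i₂.le (Q.derivative.eval (s none) * s (some none) - 1 - u₂) = res j₂.le 0 from hW₂)
    rw [res_res, res_res, map_zero, map_sub, sub_eq_zero] at h2
    exact h2
  have hmem : ∀ (f' : A) (h' : HensSch.dOpen π g ≤ HensSch.dOpen π f') (w : Sec V (HensSch.dOpen π f')),
      w ∈ I.map (sphMap π f') → res h' w ∈ I.map (sphMap π g) := fun f' h' w hw => by
    have h2 := Ideal.mem_map_of_mem (res h') hw
    rwa [Ideal.map_map, show (res h').comp (sphMap π f') = sphMap π g from RingHom.ext (res_sphMap π _)] at h2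
  have hH : HenselianRing (Sec V (HensSch.dOpen π g)) (I.map (sphMap π g)) := (hV.2.2 g).2.1
  have hm₁ : (Q.map r).eval (r (s none)) ∈ I.map (sphMap π g) := by
    rw [Polynomial.eval_map, Polynomial.eval₂_at_apply, r₁]
    simp only [r, u₁, res_res]
    exact hmem f₁ _ w₁ hw₁
  have hm₂ : IsUnit (Ideal.Quotient.mk (I.map (sphMap π g)) ((Q.map r).derivative.eval (r (s none)))) := by
    refine IsUnit.of_mul_eq_one (Ideal.Quotient.mk _ (r (s (some none)))) ?_
    rw [← map_mul, ← map_one (Ideal.Quotient.mk _), Ideal.Quotient.eq, Polynomial.derivative_map,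
      Polynomial.eval_map, Polynomial.eval₂_at_apply, ← map_mul, ← map_one r, ← map_sub, r₂]
    simp only [r, u₂, res_res]
    exact hmem f₂ _ w₂ hw₂
  have hQm : Q.Monic := by
    refine Polynomial.monic_X_pow_add ?_
    refine lt_of_le_of_lt (Polynomial.degree_sum_le _ _) ((Finset.sup_lt_iff (WithBot.bot_lt_coe n)).mpr fun i _ => ?_)
    exact lt_of_le_of_lt (Polynomial.degree_C_mul_X_pow_le _ _) (WithBot.coe_lt_coe.mpr i.2)
  obtain ⟨a, har, haI⟩ := hH.is_henselian (Q.map r) (hQm.map r) (r (s none)) hm₁ hm₂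
  let germg := (V.presheaf.germ (HensSch.dOpen π g) x hxg).hom
  have hgg : germg.comp r = germ := RingHom.ext fun w => V.presheaf.germ_res_apply _ x hxg w
  refine ⟨germg a, ?_, ?_⟩
  · show P.eval (germg a) = 0
    rw [← hQ, ← hgg, ← Polynomial.map_map, Polynomial.eval_map, Polynomial.eval₂_at_apply, har.eq_zero, map_zero]
  · have h2 := Ideal.mem_map_of_mem germg haI
    rw [Ideal.map_map, show germg.comp (sphMap π g) = (π.stalkMap x).hom.comp (germA π x) from
      RingHom.ext fun b => (stalkMap_germA π x g hxg b).symm, map_sub, ← RingHom.comp_apply germg r, hgg, ha] at h2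
    exact h2

theorem isPairHenselization_stalk :
    letI := (π.stalkMap x).hom.toAlgebra
    Hens2.IsPairHenselization ((HensSch.specLRS A).presheaf.stalk (π.base x) : Type u) (I.map (germA π x))
      (V.presheaf.stalk x : Type u) := by
  classical
  letI := (π.stalkMap x).hom.toAlgebra
  refine ⟨by rw [Ideal.map_map]; exact henselianRing_stalk x hV, fun C _ J θ hC hθ => ?_⟩
  rw [Ideal.map_map] at hθ
  have hunit : ∀ f, x ∈ HensSch.dOpen π f → IsUnit (θ.comp (germA π x) f) := fun f hx => by
    have h1 := stalkMap_germA π x f hx f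
    have h2 : IsUnit (π.stalkMap x (germA π x f)) := h1 ▸ ((hV.2.2 f).1).map _
    exact ((isUnit_map_iff (π.stalkMap x).hom _).mp h2).map θ
  choose h hh huniq using fun (f : A) (hx : x ∈ HensSch.dOpen π f) =>
    (hV.2.2 f).2.2 C J (θ.comp (germA π x)) hC hθ (hunit f hx)
  have hres : ∀ f g (hf : x ∈ HensSch.dOpen π f) (hg : x ∈ HensSch.dOpen π g)
      (hle : HensSch.dOpen π g ≤ HensSch.dOpen π f) s, h g hg (res hle s) = h f hf s := by
    intro f g hf hg hle s
    refine RingHom.congr_fun (huniq f hf ((h g hg).comp (res hle)) (RingHom.ext fun a => ?_)) s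
    show h g hg (res hle (sphMap π f a)) = _
    rw [res_sphMap]
    exact RingHom.congr_fun (hh g hg) a
  have hwd : ∀ f g (hf : x ∈ HensSch.dOpen π f) (hg : x ∈ HensSch.dOpen π g) s t,
      V.presheaf.germ _ x hf s = V.presheaf.germ _ x hg t → h f hf s = h g hg t := by
    intro f g hf hg s t hst
    obtain ⟨W, hxW, i, j, hW⟩ := V.presheaf.germ_eq x hf hg s t hst
    obtain ⟨e, hxe, he⟩ := exists_dOpen hV x W hxW
    rw [← hres f e hf hxe (he.trans i.le) s, ← hres g e hg hxe (he.trans j.le) t]
    congr 1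
    have h2 := congrArg (res he) (show res i.le s = res j.le t from hW)
    rw [res_res, res_res] at h2
    exact h2
  have hex : ∀ z : (V.presheaf.stalk x : Type u), ∃ c, ∀ f (hf : x ∈ HensSch.dOpen π f) s,
      V.presheaf.germ _ x hf s = z → h f hf s = c := fun z => by
    obtain ⟨f, hf, -, s, hs⟩ := exists_lift_finite x hV (fun _ : Unit => z) ⊤ trivial
    exact ⟨h f hf (s ()), fun g hg t ht => hwd g f hg hf t (s ()) (ht.trans (hs ()).symm)⟩
  choose H hH using hex
  have hH' : ∀ f (hf : x ∈ HensSch.dOpen π f) s, H (V.presheaf.germ _ x hf s) = h f hf s := fun f hf s =>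
    (hH _ f hf s rfl).symm
  let Hr : (V.presheaf.stalk x : Type u) →+* C :=
    { toFun := H
      map_one' := by
        obtain ⟨f, hf, -⟩ := exists_dOpen hV x ⊤ trivial
        exact (congrArg H (map_one (V.presheaf.germ _ x hf).hom).symm).trans ((hH' f hf 1).trans (map_one _))
      map_zero' := by
        obtain ⟨f, hf, -⟩ := exists_dOpen hV x ⊤ trivial
        exact (congrArg H (map_zero (V.presheaf.germ _ x hf).hom).symm).trans ((hH' f hf 0).trans (map_zero _))
      map_mul' := fun a b => by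
        obtain ⟨f, hf, -, s, hs⟩ := exists_lift_finite x hV (fun i : Bool => cond i a b) ⊤ trivial
        have ea : V.presheaf.germ _ x hf (s true) = a := hs true
        have eb : V.presheaf.germ _ x hf (s false) = b := hs false
        rw [← ea, ← eb, ← map_mul, hH', hH', hH', map_mul]
      map_add' := fun a b => by
        obtain ⟨f, hf, -, s, hs⟩ := exists_lift_finite x hV (fun i : Bool => cond i a b) ⊤ trivial
        have ea : V.presheaf.germ _ x hf (s true) = a := hs true
        have eb : V.presheaf.germ _ x hf (s false) = b := hs false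
        rw [← ea, ← eb, ← map_add, hH', hH', hH', map_add] }
  let gS := germA π x
  letI : Algebra A ((HensSch.specLRS A).presheaf.stalk (π.base x) : Type u) := gS.toAlgebra
  haveI : IsLocalization (PrimeSpectrum.asIdeal (π.base x)).primeCompl
      ((HensSch.specLRS A).presheaf.stalk (π.base x) : Type u) :=
    (inferInstance : IsLocalization.AtPrime ((Spec.structureSheaf A).presheaf.stalk (π.base x))
      (PrimeSpectrum.asIdeal (π.base x)))
  refine ⟨Hr, IsLocalization.ringHom_ext (PrimeSpectrum.asIdeal (π.base x)).primeCompl (RingHom.ext fun a => ?_),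
    fun H' hH'' => RingHom.ext fun z => ?_⟩
  · obtain ⟨f, hf, -⟩ := exists_dOpen hV x ⊤ trivial
    show H (π.stalkMap x (germA π x a)) = θ (germA π x a)
    rw [stalkMap_germA π x f hf, hH']
    exact RingHom.congr_fun (hh f hf) a
  · obtain ⟨f, hf, -, s, hs⟩ := exists_lift_finite x hV (fun _ : Unit => z) ⊤ trivial
    rw [← hs ()]
    refine Eq.trans ?_ (hH' f hf (s ())).symm
    refine RingHom.congr_fun (huniq f hf (H'.comp (V.presheaf.germ _ x hf).hom) (RingHom.ext fun a => ?_)) (s ())
    show H' (V.presheaf.germ _ x hf (sphMap π f a)) = θ (germA π x a)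
    rw [← stalkMap_germA π x f hf]
    exact RingHom.congr_fun hH'' (germA π x a)

end Groth.Agent.HensSch7
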