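import Groth.Agent.HensSch7.PullStalk
import Groth.Agent.HensSch7.StalkHenz
import Groth.Agent.HensSch7.HGlue.Main
import Mathlib.AlgebraicGeometry.Modules.Tilde

/-! Sections of `M~` on affine henselian spectra. -/

set_option autoImplicit false
set_option linter.style.haveILetI false
set_option backward.isDefEq.respectTransparency false
set_option backward.isDefEq.respectTransparency.types false
universe u

open CategoryTheory CategoryTheory.Limits Opposite TopologicalSpace AlgebraicGeometry
open scoped TensorProduct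

namespace Groth.Agent.HensSch7

variable {A : Type u} [CommRing A] {V : LocallyRingedSpace.{u}} (π : V ⟶ HensSch.specLRS A)

/-- `M~` on the spectrum. -/
noncomputable abbrev tM (M : ModuleCat.{u} (CommRingCat.of A)) : (Spec (CommRingCat.of A)).Modules := tilde M

/-- The sections on a distinguished open as an algebra. -/
noncomputable abbrev secAlg (f : A) : Algebra A (Sec V (HensSch.dOpen π f)) := (sphMap π f).toAlgebra

attribute [local instance] secAlg

/-- The local ring as an algebra. -/
noncomputable abbrev stkAlg (x : V) : Algebra A (TT V x) := ((π.stalkMap x).hom.comp (germA π x)).toAlgebra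

variable (M : ModuleCat.{u} (CommRingCat.of A))

/-- Sections of a module over a distinguished open as a module over the base. -/
noncomputable abbrev secMod (f : A) : Module A (MSec (pl (X := Spec (CommRingCat.of A)) π (tM M)) (HensSch.dOpen π f)) :=
  Module.compHom _ (sphMap π f)

attribute [local instance] secMod

/-- An element of the module as a section. -/
noncomputable def mu (f : A) (m : M) : MSec (pl (X := Spec (CommRingCat.of A)) π (tM M)) (HensSch.dOpen π f) :=
  mres (pl (X := Spec (CommRingCat.of A)) π (tM M)) (le_top : HensSch.dOpen π f ≤ (Opens.map π.base).obj ⊤)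
    (eta (X := Spec (CommRingCat.of A)) π (tM M) ⊤ ((tilde.toOpen M ⊤).hom m))

theorem mu_add (f : A) (m m' : M) : mu π M f (m + m') = mu π M f m + mu π M f m' := by
  simp only [mu]
  rw [map_add, map_add, map_add]

theorem mu_smul (f : A) (a : A) (m : M) : mu π M f (a • m) = sphMap π f a • mu π M f m := by
  simp only [mu]
  rw [show (tilde.toOpen M ⊤).hom (a • m) =
    (((Scheme.ΓSpecIso (CommRingCat.of A)).inv a) : Γ(Spec (CommRingCat.of A), ⊤)) •
      (show Γ(tM M, ⊤) from (tilde.toOpen M ⊤).hom m) from (tilde.toOpen M ⊤).hom.map_smul a m, eta_smul]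
  exact ((pl (X := Spec (CommRingCat.of A)) π (tM M)).val.map
    (homOfLE (le_top : HensSch.dOpen π f ≤ (Opens.map π.base).obj ⊤)).op).hom.map_smul _ _

/-- The comparison `O(D f) ⊗ M → Γ(D f, M~)`. -/
noncomputable def theta (f : A) :
    Sec V (HensSch.dOpen π f) ⊗[A] M →ₗ[Sec V (HensSch.dOpen π f)]
      MSec (pl (X := Spec (CommRingCat.of A)) π (tM M)) (HensSch.dOpen π f) :=
  haveI : IsScalarTower A (Sec V (HensSch.dOpen π f))
      (MSec (pl (X := Spec (CommRingCat.of A)) π (tM M)) (HensSch.dOpen π f)) :=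
    IsScalarTower.of_algebraMap_smul fun _ _ => rfl
  LinearMap.liftBaseChange (Sec V (HensSch.dOpen π f))
    ({ toFun := mu π M f, map_add' := mu_add π M f, map_smul' := mu_smul π M f } :
      M →ₗ[A] MSec (pl (X := Spec (CommRingCat.of A)) π (tM M)) (HensSch.dOpen π f))

theorem theta_tmul (f : A) (b : Sec V (HensSch.dOpen π f)) (m : M) :
    theta π M f (b ⊗ₜ m) = b • mu π M f m := by
  haveI : IsScalarTower A (Sec V (HensSch.dOpen π f))
      (MSec (pl (X := Spec (CommRingCat.of A)) π (tM M)) (HensSch.dOpen π f)) :=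
    IsScalarTower.of_algebraMap_smul fun _ _ => rfl
  exact LinearMap.liftBaseChange_tmul (A := Sec V (HensSch.dOpen π f))
    (l := ({ toFun := mu π M f, map_add' := mu_add π M f, map_smul' := mu_smul π M f } :
      M →ₗ[A] MSec (pl (X := Spec (CommRingCat.of A)) π (tM M)) (HensSch.dOpen π f))) b m

/-- Restriction as an algebra map. -/
noncomputable def resA {f g : A} (h : HensSch.dOpen π g ≤ HensSch.dOpen π f) :
    Sec V (HensSch.dOpen π f) →ₐ[A] Sec V (HensSch.dOpen π g) :=
  { res h with commutes' := res_sphMap π h }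

theorem mres_theta {f g : A} (h : HensSch.dOpen π g ≤ HensSch.dOpen π f) (w : Sec V (HensSch.dOpen π f) ⊗[A] M) :
    mres (pl (X := Spec (CommRingCat.of A)) π (tM M)) h (theta π M f w) =
      theta π M g (HGlue.mapM (resA π h) w) := by
  induction w using TensorProduct.induction_on with
  | zero => simp only [map_zero]
  | tmul b m =>
    show mres _ h (theta π M f (b ⊗ₜ m)) = theta π M g (res h b ⊗ₜ m)
    rw [theta_tmul, theta_tmul]
    refine (((pl (X := Spec (CommRingCat.of A)) π (tM M)).val.map (homOfLE h).op).hom.map_smul b _).trans ?_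
    show res h b • mres _ h (mu π M f m) = _
    refine congrArg (res h b • ·) (msection_ext _ _ _ fun z hz => ?_)
    simp only [mu, mgerm_mres]
  | add a b ha hb => simp only [map_add, ha, hb]

/-- The germ map on distinguished opens. -/
noncomputable def germAlg {f : A} (x : V) (hx : x ∈ HensSch.dOpen π f) :
    letI := stkAlg π x; Sec V (HensSch.dOpen π f) →ₐ[A] TT V x :=
  letI := stkAlg π x
  { (V.presheaf.germ (HensSch.dOpen π f) x hx).hom with commutes' := fun a => (stalkMap_germA π x f hx a).symm }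

theorem isLocalizedModule_toStalk {R : CommRingCat.{u}} (M : ModuleCat.{u} R) (x : PrimeSpectrum R) :
    IsLocalizedModule x.asIdeal.primeCompl (tilde.toStalk M x).hom :=
  inferInstanceAs (IsLocalizedModule x.asIdeal.primeCompl (StructureSheaf.toStalkₗ ..))

/-- The comparison on stalks. -/
theorem exists_stalk_equiv (x : V) :
    letI := stkAlg π x
    ∃ β : TT V x ⊗[A] M →+ stk (pl (X := Spec (CommRingCat.of A)) π (tM M)) x, Function.Bijective β ∧
      ∀ (f : A) (hx : x ∈ HensSch.dOpen π f) (w : Sec V (HensSch.dOpen π f) ⊗[A] M),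
        mgerm _ x hx (theta π M f w) = β (HGlue.mapM (germAlg π x hx) w) := by
  letI := stkAlg π x
  let p : PrimeSpectrum.Top (CommRingCat.of A) := π.base x
  let S : Type u := SS (X := Spec (CommRingCat.of A)) π x
  let Fy : Type u := FF (X := Spec (CommRingCat.of A)) π (tM M) x
  letI : Algebra A S := (germA π x).toAlgebra
  letI : Algebra S (TT V x) := stAlg (X := Spec (CommRingCat.of A)) π x
  haveI : IsScalarTower A S (TT V x) := IsScalarTower.of_algebraMap_eq fun _ => rfl
  letI : Module A Fy := Module.compHom _ (algebraMap A S)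
  haveI : IsScalarTower A S Fy := IsScalarTower.of_algebraMap_smul fun _ _ => rfl
  haveI : IsLocalization p.asIdeal.primeCompl S :=
    (inferInstance : IsLocalization.AtPrime ((Spec.structureSheaf A).presheaf.stalk p) p.asIdeal)
  let l : M →ₗ[A] Fy :=
    { toFun := fun m => (tilde.toStalk M p).hom m
      map_add' := map_add _
      map_smul' := fun a m => (tilde.toStalk M p).hom.map_smul a m }
  haveI hl : IsLocalizedModule p.asIdeal.primeCompl l := isLocalizedModule_toStalk (R := CommRingCat.of A) M p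
  have h1 : IsBaseChange S l := IsLocalizedModule.isBaseChange p.asIdeal.primeCompl S l
  let g : Fy →ₗ[S] TT V x ⊗[S] Fy := TensorProduct.mk S (TT V x) Fy 1
  have h2 : IsBaseChange (TT V x) g := TensorProduct.isBaseChange S Fy (TT V x)
  let h12 := h1.comp h2
  refine ⟨((phi (X := Spec (CommRingCat.of A)) π (tM M) x).toAddMonoidHom).comp h12.equiv.toLinearMap.toAddMonoidHom,
    ⟨(injective_phi _ _ x).comp h12.equiv.injective, (surjective_phi _ _ x).comp h12.equiv.surjective⟩,
    fun f hx w => ?_⟩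
  induction w using TensorProduct.induction_on with
  | zero => simp only [map_zero]
  | tmul b m =>
    show mgerm _ x hx (theta π M f (b ⊗ₜ m)) =
      phi (X := Spec (CommRingCat.of A)) π (tM M) x (h12.equiv ((V.presheaf.germ (HensSch.dOpen π f) x hx b : TT V x) ⊗ₜ[A] m))
    rw [theta_tmul, mgerm_smul, IsBaseChange.equiv_tmul, map_smul]
    refine congrArg (fun z => (V.presheaf.germ (HensSch.dOpen π f) x hx b : TT V x) • z) ?_
    show mgerm _ x hx (mu π M f m) = phi (X := Spec (CommRingCat.of A)) π (tM M) x ((1 : TT V x) ⊗ₜ[S] l m)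
    rw [phi_tmul, one_smul, mu, mgerm_mres]
    exact (etaX_germ (X := Spec (CommRingCat.of A)) π (tM M) x ⊤ trivial _).symm
  | add a b ha hb => simp only [map_add, ha, hb]

variable {π M} {I : Ideal A} (hV : HensSch.IsSph A I V π)

include hV

theorem exists_res_eq_zero {f : A} {x : V} (hx : x ∈ HensSch.dOpen π f) (w : Sec V (HensSch.dOpen π f) ⊗[A] M)
    (h : letI := stkAlg π x; HGlue.mapM (germAlg π x hx) w = 0) :
    ∃ (g : A) (hle : HensSch.dOpen π g ≤ HensSch.dOpen π f), x ∈ HensSch.dOpen π g ∧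
      HGlue.mapM (resA π hle) w = 0 := by
  classical
  letI := stkAlg π x
  let S : Type u := SS (X := Spec (CommRingCat.of A)) π x
  letI : Algebra A S := (germA π x).toAlgebra
  letI : Algebra S (TT V x) := stAlg (X := Spec (CommRingCat.of A)) π x
  haveI : IsScalarTower A S (TT V x) := IsScalarTower.of_algebraMap_eq fun _ => rfl
  haveI : IsLocalization (PrimeSpectrum.asIdeal (π.base x)).primeCompl S :=
    (inferInstance : IsLocalization.AtPrime ((Spec.structureSheaf A).presheaf.stalk (π.base x))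
      (PrimeSpectrum.asIdeal (π.base x)))
  haveI : Module.Flat A S := IsLocalization.flat S (PrimeSpectrum.asIdeal (π.base x)).primeCompl
  haveI : Module.Flat S (TT V x) := flat_stalkMap_sph hV x
  haveI : Module.Flat A (TT V x) := Module.Flat.trans A S (TT V x)
  obtain ⟨T, hT⟩ := TensorProduct.exists_finset w
  let m : T → M := fun p => p.1.2
  let t : T → TT V x := fun p => germAlg π x hx p.1.1
  have h0 : ∑ p, m p ⊗ₜ[A] t p = 0 := by
    have h1 := congrArg (TensorProduct.comm A (TT V x) M) h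
    rw [hT, map_zero, map_sum, map_sum] at h1
    refine Eq.trans ?_ h1
    rw [← Finset.sum_attach T]
    rfl
  obtain ⟨k, a, y, hay, ham⟩ := TensorProduct.vanishesTrivially_of_sum_tmul_eq_zero_of_rTensor_injective A
    (Module.Flat.rTensor_preserves_injective_linearMap _ (Submodule.subtype_injective _)) h0
  obtain ⟨g₁, hx₁, hle₁, s, hs⟩ := exists_lift_finite x hV y (HensSch.dOpen π f) hx
  let d : T → Sec V (HensSch.dOpen π g₁) := fun p => res hle₁ p.1.1 - ∑ j, a p j • s j
  have hd : ∀ p, V.presheaf.germ (HensSch.dOpen π g₁) x hx₁ (d p) = 0 := fun p => by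
    show germAlg π x hx₁ (d p) = 0
    simp only [d]
    rw [map_sub, map_sum, sub_eq_zero]
    refine (V.presheaf.germ_res_apply _ x hx₁ _).trans ((hay p).trans (Finset.sum_congr rfl fun j _ => ?_))
    rw [map_smul]
    exact congrArg (a p j • ·) (hs j).symm
  choose W hxW iW jW hW using fun p : T => V.presheaf.germ_eq x hx₁ hx₁ (d p) 0 ((hd p).trans (map_zero _).symm)
  obtain ⟨g, hxg, hg⟩ := exists_dOpen hV x (HensSch.dOpen π g₁ ⊓ Finset.univ.inf W) ⟨hx₁, by
    show x ∈ ((Finset.univ.inf W : Opens V) : Set V)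
    rw [Opens.coe_finset_inf]
    simp only [Finset.inf_set_eq_iInter, Function.comp_apply, Set.mem_iInter, SetLike.mem_coe]
    exact fun p _ => hxW p⟩
  have hg₁ : HensSch.dOpen π g ≤ HensSch.dOpen π g₁ := hg.trans inf_le_left
  have hd0 : ∀ p, res hg₁ (d p) = 0 := fun p => by
    have hgW : HensSch.dOpen π g ≤ W p := (hg.trans inf_le_right).trans (Finset.inf_le (Finset.mem_univ p))
    have h2 := congrArg (res hgW) (show res (iW p).le (d p) = res (jW p).le 0 from hW p)
    rw [res_res, res_res, map_zero] at h2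
    exact h2
  refine ⟨g, hg₁.trans hle₁, hxg, ?_⟩
  have hp : ∀ p : T, resA π (hg₁.trans hle₁) p.1.1 = ∑ j, a p j • resA π hg₁ (s j) := fun p => by
    have h3 := hd0 p
    simp only [d] at h3
    rw [map_sub, res_res, sub_eq_zero] at h3
    refine h3.trans ?_
    show resA π hg₁ (∑ j, a p j • s j) = _
    rw [map_sum]
    simp only [map_smul]
  rw [hT, map_sum, ← Finset.sum_attach T]
  calc ∑ p ∈ T.attach, HGlue.mapM (resA π (hg₁.trans hle₁)) (p.1.1 ⊗ₜ[A] p.1.2)
      = ∑ p : T, ∑ j, resA π hg₁ (s j) ⊗ₜ[A] (a p j • m p) := Finset.sum_congr rfl fun p _ => by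
        show resA π (hg₁.trans hle₁) p.1.1 ⊗ₜ[A] m p = _
        rw [hp, TensorProduct.sum_tmul]
        simp only [TensorProduct.smul_tmul]
    _ = 0 := by
        rw [Finset.sum_comm]
        refine Finset.sum_eq_zero fun j _ => ?_
        rw [← TensorProduct.tmul_sum, ham, TensorProduct.tmul_zero]

omit hV in
theorem dOpen_mul (g g' : A) : HensSch.dOpen π (g * g') = HensSch.dOpen π g ⊓ HensSch.dOpen π g' := by
  simp only [HensSch.dOpen, PrimeSpectrum.basicOpen_mul]
  rfl

theorem isHensAway_res {f g : A} (h : HensSch.dOpen π g ≤ HensSch.dOpen π f) :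
    HensSch.IsHensAway (Sec V (HensSch.dOpen π f)) (I.map (sphMap π f)) (sphMap π f g)
      (Sec V (HensSch.dOpen π g)) (res h) := by
  have hcomp : (res h).comp (sphMap π f) = sphMap π g := RingHom.ext (res_sphMap π h)
  refine ⟨?_, ?_, fun C _ J θ hC hθ hu => ?_⟩
  · rw [← RingHom.comp_apply, hcomp]; exact (hV.2.2 g).1
  · rw [Ideal.map_map, hcomp]; exact (hV.2.2 g).2.1
  · rw [Ideal.map_map] at hθ
    obtain ⟨t, ht, huniq⟩ := (hV.2.2 g).2.2 C J (θ.comp (sphMap π f)) hC hθ hu
    obtain ⟨_, -, huniq'⟩ := (hV.2.2 f).2.2 C J (θ.comp (sphMap π f)) hC hθ ((hV.2.2 f).1.map θ)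
    refine ⟨t, (huniq' _ ?_).trans (huniq' θ rfl).symm, fun t' ht' => huniq t' ?_⟩
    · simp only
      rw [RingHom.comp_assoc, hcomp, ht]
    · simp only at ht' ⊢
      show t'.comp (sphMap π g) = _
      rw [← hcomp, ← RingHom.comp_assoc, ht']

theorem span_eq_top {f : A} {ι : Type u} (g : ι → A) (hc : ∀ x ∈ HensSch.dOpen π f, ∃ i, x ∈ HensSch.dOpen π (g i)) :
    Ideal.span (Set.range fun i => sphMap π f (g i)) = ⊤ := by
  by_contra hne
  obtain ⟨m, hm, hle⟩ := Ideal.exists_le_maximal _ hne
  have hIm : I.map (sphMap π f) ≤ m := ((hV.2.2 f).2.1.jac).trans (sInf_le ⟨bot_le, hm⟩)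
  let p : PrimeSpectrum A := ⟨m.comap (sphMap π f), Ideal.comap_isPrime _ _⟩
  obtain ⟨x, hxp⟩ : p ∈ Set.range π.base := hV.2.1 ▸ ((PrimeSpectrum.mem_zeroLocus _ _).mpr fun a ha =>
    hIm (Ideal.mem_map_of_mem _ ha))
  have hxf : x ∈ HensSch.dOpen π f := by
    show f ∉ PrimeSpectrum.asIdeal (π.base x)
    rw [hxp]
    exact fun h => hm.ne_top (Ideal.eq_top_of_isUnit_mem _ h (hV.2.2 f).1)
  obtain ⟨i, hi⟩ := hc x hxf
  have hi' : g i ∉ PrimeSpectrum.asIdeal (π.base x) := hi
  rw [hxp] at hi'
  exact hi' (hle (Ideal.subset_span ⟨i, rfl⟩))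

theorem injective_theta (f : A) : Function.Injective (theta π M f) := by
  refine (injective_iff_map_eq_zero _).mpr fun w hw => ?_
  have hloc : ∀ x : ↥(HensSch.dOpen π f), ∃ (g : A) (hle : HensSch.dOpen π g ≤ HensSch.dOpen π f),
      x.1 ∈ HensSch.dOpen π g ∧ HGlue.mapM (resA π hle) w = 0 := fun x => by
    letI := stkAlg π x.1
    obtain ⟨β, hβ, hβf⟩ := exists_stalk_equiv π M x.1
    refine exists_res_eq_zero hV x.2 w (hβ.1 ?_)
    rw [← hβf f x.2, hw, map_zero, map_zero]
  choose g hle hxg hg using hloc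
  let B := Sec V (HensSch.dOpen π f)
  letI algB : ∀ x, Algebra B (Sec V (HensSch.dOpen π (g x))) := fun x => (res (hle x)).toAlgebra
  haveI : ∀ x, IsScalarTower A B (Sec V (HensSch.dOpen π (g x))) := fun x =>
    IsScalarTower.of_algebraMap_eq fun a => (res_sphMap π (hle x) a).symm
  haveI : HenselianRing B (I.map (sphMap π f)) := (hV.2.2 f).2.1
  have hF : HGlue.IsFam (I.map (sphMap π f)) (fun x => sphMap π f (g x)) (fun x => Sec V (HensSch.dOpen π (g x))) :=
    ⟨fun x => isHensAway_res hV (hle x), fun x => RingHom.flat_algebraMap_iff.mp (flat_of_isHensAway (isHensAway_res hV (hle x))),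
      span_eq_top hV g fun x hx => ⟨⟨x, hx⟩, hxg ⟨x, hx⟩⟩⟩
  refine HGlue.eq_zero_of_tmul_eq_zero hF (t := Set.univ) (by rw [Set.image_univ]; exact hF.span) w fun x _ => ?_
  let e : Sec V (HensSch.dOpen π (g x)) ⊗[B] (B ⊗[A] M) ≃ₗ[Sec V (HensSch.dOpen π (g x))]
      Sec V (HensSch.dOpen π (g x)) ⊗[A] M :=
    TensorProduct.AlgebraTensorModule.cancelBaseChange A B (Sec V (HensSch.dOpen π (g x))) (Sec V (HensSch.dOpen π (g x))) M
  have he : ∀ z : B ⊗[A] M, e ((1 : Sec V (HensSch.dOpen π (g x))) ⊗ₜ[B] z) = HGlue.mapM (resA π (hle x)) z := by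
    intro z
    induction z using TensorProduct.induction_on with
    | zero => simp
    | tmul b m =>
      show e (1 ⊗ₜ[B] (b ⊗ₜ[A] m)) = res (hle x) b ⊗ₜ[A] m
      rw [TensorProduct.AlgebraTensorModule.cancelBaseChange_tmul, Algebra.smul_def, mul_one]
      rfl
    | add a b ha hb => simp only [TensorProduct.tmul_add, map_add, ha, hb]
  exact e.injective ((he w).trans ((hg x).trans (map_zero e).symm))

theorem surjective_theta (f : A) : Function.Surjective (theta π M f) := by
  intro m
  have hloc : ∀ x : ↥(HensSch.dOpen π f), ∃ (g : A) (hle : HensSch.dOpen π g ≤ HensSch.dOpen π f),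
      x.1 ∈ HensSch.dOpen π g ∧ ∃ z, theta π M g z = mres (pl (X := Spec (CommRingCat.of A)) π (tM M)) hle m := fun x => by
    classical
    letI := stkAlg π x.1
    obtain ⟨β, hβ, hβf⟩ := exists_stalk_equiv π M x.1
    obtain ⟨t, ht⟩ := hβ.2 (mgerm _ x.1 x.2 m)
    obtain ⟨T, hT⟩ := TensorProduct.exists_finset t
    obtain ⟨g₁, hx₁, hle₁, s, hs⟩ := exists_lift_finite x.1 hV (fun i : Fin T.card => (T.equivFin.symm i).1.1)
      (HensSch.dOpen π f) x.2
    let z₁ : Sec V (HensSch.dOpen π g₁) ⊗[A] M := ∑ i : Fin T.card, s i ⊗ₜ[A] (T.equivFin.symm i).1.2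
    have hz₁ : HGlue.mapM (germAlg π x.1 hx₁) z₁ = t := by
      rw [hT, map_sum, ← Finset.sum_attach T]
      refine Fintype.sum_equiv T.equivFin.symm _ (fun p : T => p.1.1 ⊗ₜ[A] p.1.2) fun i => ?_
      exact congrArg (· ⊗ₜ[A] _) (hs i)
    have h1 : mgerm _ x.1 hx₁ (theta π M g₁ z₁) =
        mgerm _ x.1 hx₁ (mres (pl (X := Spec (CommRingCat.of A)) π (tM M)) hle₁ m) := by
      rw [hβf, hz₁, ht, mgerm_mres]
    obtain ⟨W, hW, hxW, hWe⟩ := exists_mres_eq h1
    obtain ⟨g, hxg, hgW⟩ := exists_dOpen hV x.1 W hxW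
    refine ⟨g, (hgW.trans hW).trans hle₁, hxg, HGlue.mapM (resA π (hgW.trans hW)) z₁, ?_⟩
    rw [← mres_theta]
    refine msection_ext _ _ _ fun z hz => ?_
    have h2 := congrArg (mgerm _ z (hgW hz)) hWe
    simp only [mgerm_mres] at h2 ⊢
    exact h2
  choose g hle hxg z hz using hloc
  let B := Sec V (HensSch.dOpen π f)
  letI algB : ∀ x, Algebra B (Sec V (HensSch.dOpen π (g x))) := fun x => (res (hle x)).toAlgebra
  haveI : ∀ x, IsScalarTower A B (Sec V (HensSch.dOpen π (g x))) := fun x =>
    IsScalarTower.of_algebraMap_eq fun a => (res_sphMap π (hle x) a).symm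
  haveI : HenselianRing B (I.map (sphMap π f)) := (hV.2.2 f).2.1
  let e : ∀ x, Sec V (HensSch.dOpen π (g x)) ⊗[B] (B ⊗[A] M) ≃ₗ[Sec V (HensSch.dOpen π (g x))]
      Sec V (HensSch.dOpen π (g x)) ⊗[A] M := fun x =>
    TensorProduct.AlgebraTensorModule.cancelBaseChange A B (Sec V (HensSch.dOpen π (g x))) (Sec V (HensSch.dOpen π (g x))) M
  have hkey : ∀ i j, ∃ (P : Type u) (_ : CommRing P) (_ : Algebra B P)
      (_ : HensSch.IsHensAway B (I.map (sphMap π f)) (sphMap π f (g i) * sphMap π f (g j)) P (algebraMap B P))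
      (μ : Sec V (HensSch.dOpen π (g i)) →ₐ[B] P) (ν : Sec V (HensSch.dOpen π (g j)) →ₐ[B] P),
        HGlue.mapM μ ((e i).symm (z i)) = HGlue.mapM ν ((e j).symm (z j)) := by
    intro i j
    have hi : HensSch.dOpen π (g i * g j) ≤ HensSch.dOpen π (g i) := (dOpen_mul (π := π) _ _).le.trans inf_le_left
    have hj : HensSch.dOpen π (g i * g j) ≤ HensSch.dOpen π (g j) := (dOpen_mul (π := π) _ _).le.trans inf_le_right
    letI : Algebra B (Sec V (HensSch.dOpen π (g i * g j))) := (res (hi.trans (hle i))).toAlgebra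
    haveI : IsScalarTower A B (Sec V (HensSch.dOpen π (g i * g j))) :=
      IsScalarTower.of_algebraMap_eq fun a => (res_sphMap π (hi.trans (hle i)) a).symm
    refine ⟨Sec V (HensSch.dOpen π (g i * g j)), inferInstance, inferInstance, by
        rw [← map_mul]; exact isHensAway_res hV (hi.trans (hle i)),
      { res hi with commutes' := fun b => res_res _ _ b },
      { res hj with commutes' := fun b => res_res _ _ b }, ?_⟩
    let eP : Sec V (HensSch.dOpen π (g i * g j)) ⊗[B] (B ⊗[A] M) ≃ₗ[Sec V (HensSch.dOpen π (g i * g j))]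
        Sec V (HensSch.dOpen π (g i * g j)) ⊗[A] M :=
      TensorProduct.AlgebraTensorModule.cancelBaseChange A B (Sec V (HensSch.dOpen π (g i * g j)))
        (Sec V (HensSch.dOpen π (g i * g j))) M
    have nat : ∀ k (hk : HensSch.dOpen π (g i * g j) ≤ HensSch.dOpen π (g k))
        (μ : Sec V (HensSch.dOpen π (g k)) →ₐ[B] Sec V (HensSch.dOpen π (g i * g j))) (hμ : ∀ b, μ b = res hk b)
        (w : Sec V (HensSch.dOpen π (g k)) ⊗[B] (B ⊗[A] M)),
        eP (HGlue.mapM μ w) = HGlue.mapM (resA π hk) (e k w) := by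
      intro k hk μ hμ w
      induction w using TensorProduct.induction_on with
      | zero => simp
      | tmul c q =>
        induction q using TensorProduct.induction_on with
        | zero => simp
        | tmul b m =>
          show eP (μ c ⊗ₜ[B] (b ⊗ₜ[A] m)) = HGlue.mapM (resA π hk) (e k (c ⊗ₜ[B] (b ⊗ₜ[A] m)))
          rw [TensorProduct.AlgebraTensorModule.cancelBaseChange_tmul, TensorProduct.AlgebraTensorModule.cancelBaseChange_tmul]
          show (b • μ c) ⊗ₜ[A] m = res hk (b • c) ⊗ₜ[A] m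
          rw [← map_smul μ, hμ]
        | add a b ha hb => simp only [TensorProduct.tmul_add, map_add, ha, hb]
      | add a b ha hb => simp only [map_add, ha, hb]
    refine eP.injective ?_
    rw [nat i hi _ (fun _ => rfl), nat j hj _ (fun _ => rfl), LinearEquiv.apply_symm_apply,
      LinearEquiv.apply_symm_apply]
    refine injective_theta hV (g i * g j) ?_
    rw [← mres_theta, ← mres_theta, hz, hz]
    exact msection_ext _ _ _ fun p hp => by simp only [mgerm_mres]
  obtain ⟨y, hy, -⟩ := HGlue.existsUnique (M := B ⊗[A] M) (fun x => sphMap π f (g x))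
    (fun x => Sec V (HensSch.dOpen π (g x))) (fun x => isHensAway_res hV (hle x))
    (span_eq_top hV g fun x hx => ⟨⟨x, hx⟩, hxg ⟨x, hx⟩⟩) (fun x => (e x).symm (z x)) hkey
  refine ⟨y, msection_ext _ _ _ fun p hp => ?_⟩
  have h3 : HGlue.mapM (resA π (hle ⟨p, hp⟩)) y = z ⟨p, hp⟩ := by
    rw [← (e ⟨p, hp⟩).apply_symm_apply (z ⟨p, hp⟩), ← hy]
    clear hy
    induction y using TensorProduct.induction_on with
    | zero => simp
    | tmul b m =>
      show res (hle ⟨p, hp⟩) b ⊗ₜ[A] m = e ⟨p, hp⟩ (1 ⊗ₜ[B] (b ⊗ₜ[A] m))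
      rw [TensorProduct.AlgebraTensorModule.cancelBaseChange_tmul, Algebra.smul_def, mul_one]
      rfl
    | add a b ha hb => simp only [TensorProduct.tmul_add, map_add, ha, hb]
  have h4 := mres_theta π M (hle ⟨p, hp⟩) y
  rw [h3, hz] at h4
  have h5 := congrArg (mgerm _ p (hxg ⟨p, hp⟩)) h4
  simp only [mgerm_mres] at h5
  exact h5

/-- Universal property of the sections of `M~`. -/
theorem existsUnique_tildeLift (f : A) {P : Type u} [AddCommGroup P] [Module (Sec V (HensSch.dOpen π f)) P]
    (ψ : M →+ P) (hψ : ∀ (a : A) (m : M), ψ (a • m) = sphMap π f a • ψ m) :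
    ∃! χ : MSec (pl (X := Spec (CommRingCat.of A)) π (tM M)) (HensSch.dOpen π f) →ₗ[Sec V (HensSch.dOpen π f)] P,
      ∀ m : M, χ (mu π M f m) = ψ m := by
  letI : Module A P := Module.compHom P (sphMap π f)
  haveI : IsScalarTower A (Sec V (HensSch.dOpen π f)) P := IsScalarTower.of_algebraMap_smul fun _ _ => rfl
  let e := LinearEquiv.ofBijective (theta π M f) ⟨injective_theta hV f, surjective_theta hV f⟩
  have he : ∀ m, e.symm (mu π M f m) = (1 : Sec V (HensSch.dOpen π f)) ⊗ₜ[A] m := fun m => by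
    rw [LinearEquiv.symm_apply_eq]
    exact ((theta_tmul π M f 1 m).trans (one_smul _ _)).symm
  let χ₀ := LinearMap.liftBaseChange (Sec V (HensSch.dOpen π f))
    ({ toFun := ψ, map_add' := map_add ψ, map_smul' := hψ } : M →ₗ[A] P)
  refine ⟨χ₀.comp e.symm.toLinearMap, fun m => ?_, fun χ hχ => ?_⟩
  · show χ₀ (e.symm (mu π M f m)) = ψ m
    rw [he, LinearMap.liftBaseChange_tmul, one_smul]
    rfl
  · refine LinearMap.ext fun z => ?_
    obtain ⟨w, rfl⟩ := e.surjective z
    show χ (e w) = χ₀ (e.symm (e w))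
    rw [LinearEquiv.symm_apply_apply]
    induction w using TensorProduct.induction_on with
    | zero => simp only [map_zero]
    | tmul b m =>
      rw [LinearMap.liftBaseChange_tmul]
      show χ (theta π M f (b ⊗ₜ m)) = b • ψ m
      rw [theta_tmul, map_smul, hχ]
    | add a b ha hb => simp only [map_add, ha, hb]

end Groth.Agent.HensSch7
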