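import Groth.Agent.HensSch7.SphTilde

/-! `M ↦ M~` is fully faithful on affine henselian schemes. -/

set_option autoImplicit false
set_option linter.style.haveILetI false
set_option backward.isDefEq.respectTransparency false
set_option backward.isDefEq.respectTransparency.types false
universe u

open CategoryTheory CategoryTheory.Limits Opposite TopologicalSpace AlgebraicGeometry
open scoped TensorProduct

namespace Groth.Agent.HensSch7

attribute [local instance] secAlg secMod

variable {A : Type u} [CommRing A] {I : Ideal A} [HenselianRing A I] {V : LocallyRingedSpace.{u}}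
  {π : V ⟶ HensSch.specLRS A} (hV : HensSch.IsSph A I V π)

include hV

theorem bijective_sphMap_one : Function.Bijective (sphMap π (1 : A)) := by
  obtain ⟨-, hB, hu⟩ := hV.2.2 (1 : A)
  obtain ⟨r, hr, -⟩ := hu A I (RingHom.id A) inferInstance (Ideal.map_id I).le isUnit_one
  obtain ⟨_, -, huniq⟩ := hu (Sec V (HensSch.dOpen π (1 : A))) _ (sphMap π (1 : A)) hB le_rfl (hV.2.2 (1 : A)).1
  have h2 : (sphMap π (1 : A)).comp r = RingHom.id _ :=
    (huniq _ (show ((sphMap π (1 : A)).comp r).comp (sphMap π (1 : A)) = sphMap π (1 : A) by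
      rw [RingHom.comp_assoc, show r.comp (sphMap π (1 : A)) = RingHom.id A from hr]; rfl)).trans (huniq _ (RingHom.id_comp _)).symm
  exact ⟨Function.LeftInverse.injective (g := r) fun a => RingHom.congr_fun hr a,
    Function.RightInverse.surjective (g := r) fun b => RingHom.congr_fun h2 b⟩

theorem bijective_unit_tilde (N : ModuleCat.{u} (CommRingCat.of A)) :
    Function.Bijective (eta (X := Spec (CommRingCat.of A)) π (tM N) ⊤) := by
  let P := pl (X := Spec (CommRingCat.of A)) π (tM N)
  have h1 : (Opens.map π.base).obj ⊤ ≤ HensSch.dOpen π (1 : A) := fun z _ h =>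
    (PrimeSpectrum.isPrime (π.base z)).ne_top ((Ideal.eq_top_iff_one _).mpr h)
  have hres : Function.Bijective (mres P (le_top : HensSch.dOpen π (1 : A) ≤ (Opens.map π.base).obj ⊤)) := by
    refine Function.bijective_iff_has_inverse.mpr ⟨mres P h1, fun m => ?_, fun m => ?_⟩ <;>
      exact msection_ext _ _ _ fun z hz => (mgerm_mres P _ z hz _).trans (mgerm_mres P _ z _ _)
  have hop : Function.Bijective ((tilde.toOpen N ⊤).hom) :=
    (tilde.isoTop (R := CommRingCat.of A) N).toLinearEquiv.bijective
  have hθ : Function.Bijective (theta π N (1 : A)) := ⟨injective_theta hV 1, surjective_theta hV 1⟩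
  have hone : Function.Bijective (fun m : N => (1 : Sec V (HensSch.dOpen π (1 : A))) ⊗ₜ[A] m) := by
    let e : Sec V (HensSch.dOpen π (1 : A)) ≃ₗ[A] A :=
      (LinearEquiv.ofBijective (Algebra.linearMap A (Sec V (HensSch.dOpen π (1 : A)))) (bijective_sphMap_one hV)).symm
    let e' : Sec V (HensSch.dOpen π (1 : A)) ⊗[A] N ≃ₗ[A] N :=
      (TensorProduct.congr e (LinearEquiv.refl A N)).trans (TensorProduct.lid A N)
    have : (fun m : N => (1 : Sec V (HensSch.dOpen π (1 : A))) ⊗ₜ[A] m) = e'.symm := funext fun m => by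
      refine (LinearEquiv.eq_symm_apply e').mpr ?_
      show e 1 • m = m
      rw [show e 1 = 1 from (LinearEquiv.symm_apply_eq _).mpr (map_one (sphMap π (1 : A))).symm, one_smul]
    rw [this]
    exact e'.symm.bijective
  have hmu : Function.Bijective (mu π N (1 : A)) := by
    have : mu π N (1 : A) = fun m => theta π N 1 ((1 : Sec V (HensSch.dOpen π (1 : A))) ⊗ₜ[A] m) :=
      funext fun m => ((theta_tmul π N 1 1 m).trans (one_smul _ _)).symm
    rw [this]
    exact hθ.comp hone
  have hmu' : Function.Bijective ((mres P (le_top : HensSch.dOpen π (1 : A) ≤ (Opens.map π.base).obj ⊤)) ∘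
      (eta (X := Spec (CommRingCat.of A)) π (tM N) ⊤ ∘ (tilde.toOpen N ⊤).hom)) := hmu
  exact (Function.Bijective.of_comp_iff _ hop).mp ((Function.Bijective.of_comp_iff' hres _).mp hmu')

theorem bijective_pullMod_tilde (M N : ModuleCat.{u} (CommRingCat.of A)) :
    Function.Bijective ((HensSch.pullMod π).map :
      (tM M ⟶ tM N) → ((HensSch.pullMod π).obj (tM M) ⟶ (HensSch.pullMod π).obj (tM N))) := by
  let e := HensSch.pullPushAdj π
  let η : tM N ⟶ (HensSch.pushMod π).obj ((HensSch.pullMod π).obj (tM N)) := e.unit.app (tM N)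
  haveI : IsIso ((moduleSpecΓFunctor (R := CommRingCat.of A)).map η) :=
    (ConcreteCategory.isIso_iff_bijective _).mpr (bijective_unit_tilde hV N)
  let a := tilde.adjunction (R := CommRingCat.of A)
  have hη : Function.Bijective (fun φ : tM M ⟶ tM N => φ ≫ η) := by
    refine (Function.Bijective.of_comp_iff' (a.homEquiv _ _).bijective _).mp ?_
    have : (a.homEquiv _ _) ∘ (fun φ : tM M ⟶ tM N => φ ≫ η) =
        (fun t => t ≫ (moduleSpecΓFunctor (R := CommRingCat.of A)).map η) ∘ a.homEquiv M (tM N) :=
      funext fun φ => a.homEquiv_naturality_right φ η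
    rw [this]
    exact ((asIso ((moduleSpecΓFunctor (R := CommRingCat.of A)).map η)).homToEquiv.bijective).comp
      (a.homEquiv M (tM N)).bijective
  refine (Function.Bijective.of_comp_iff' (e.homEquiv _ _).bijective _).mp ?_
  have : (e.homEquiv _ _) ∘ ((HensSch.pullMod π).map : (tM M ⟶ tM N) → _) = fun φ => φ ≫ η := funext fun φ =>
    (Adjunction.homEquiv_unit ..).trans (e.unit.naturality φ).symm
  rw [this]
  exact hη

theorem full_faithful : (HensSch.sphTildeFunctor π).Full ∧ (HensSch.sphTildeFunctor π).Faithful := by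
  refine ⟨⟨fun {M N} f => ?_⟩, ⟨fun {M N} f g h => ?_⟩⟩
  · obtain ⟨t, ht⟩ := (bijective_pullMod_tilde hV M N).2 f
    exact ⟨(tilde.fullyFaithfulFunctor (R := CommRingCat.of A)).preimage t,
      (congrArg (HensSch.pullMod π).map
        ((tilde.fullyFaithfulFunctor (R := CommRingCat.of A)).map_preimage t)).trans ht⟩
  · exact (tilde.fullyFaithfulFunctor (R := CommRingCat.of A)).map_injective ((bijective_pullMod_tilde hV M N).1 h)

end Groth.Agent.HensSch7
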