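import Groth.Agent.HensSch7.StalkHenz
import Groth.Agent.Hensel.NoethPair
import Groth.Prelude.Def_Coh

/-! Local rings of henselisations of schemes over a pair. -/

set_option autoImplicit false
set_option linter.style.haveILetI false
universe u

open CategoryTheory Opposite TopologicalSpace AlgebraicGeometry Topology

namespace Groth.Agent.HensSch7

variable {A : Type u} [CommRing A]

/-- The germs of functions from the base. -/
noncomputable def toS {X : Scheme.{u}} (s : X ⟶ Spec (CommRingCat.of A)) (y : X) :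
    A →+* (X.presheaf.stalk y : Type u) :=
  (X.presheaf.germ ⊤ y trivial).hom.comp (Coh.toGlobal s)

/-- The local ring at a point is the henselisation of the local ring of the scheme. -/
def IsHenzAt {X : Scheme.{u}} (s : X ⟶ Spec (CommRingCat.of A)) (I : Ideal A) {V : LocallyRingedSpace.{u}}
    (g : V ⟶ X.toLocallyRingedSpace) (w : V) : Prop :=
  letI : Algebra (X.presheaf.stalk (g.base w) : Type u) (V.presheaf.stalk w : Type u) :=
    (g.stalkMap w).hom.toAlgebra
  Hens2.IsPairHenselization (X.presheaf.stalk (g.base w) : Type u) (I.map (toS s (g.base w)))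
    (V.presheaf.stalk w : Type u)

theorem radical_map_radical {R S : Type*} [CommRing R] [CommRing S] (f : R →+* S) (J : Ideal R) :
    (J.radical.map f).radical = (J.map f).radical :=
  le_antisymm (Ideal.radical_le_radical_iff.mpr (Ideal.map_radical_le f))
    (Ideal.radical_mono (Ideal.map_mono Ideal.le_radical))

theorem vanishingIdeal_preimage {A' : Type u} [CommRing A'] {X : Scheme.{u}} (s : X ⟶ Spec (CommRingCat.of A))
    (I : Ideal A) (j : Spec (CommRingCat.of A') ⟶ X) (ψ : A →+* A') (hψ : Spec.map (CommRingCat.ofHom ψ) = j ≫ s) :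
    PrimeSpectrum.vanishingIdeal (j.base ⁻¹' (s.base ⁻¹' PrimeSpectrum.zeroLocus (I : Set A))) =
      (I.map ψ).radical := by
  rw [← PrimeSpectrum.vanishingIdeal_zeroLocus_eq_radical]
  refine congrArg PrimeSpectrum.vanishingIdeal ?_
  refine Eq.trans ?_ ((PrimeSpectrum.preimage_comap_zeroLocus ψ (I : Set A)).trans (PrimeSpectrum.zeroLocus_span _).symm)
  show (j ≫ s).base ⁻¹' PrimeSpectrum.zeroLocus (I : Set A) = _
  exact hψ ▸ rfl

theorem stalkMap_toS {A' : Type u} [CommRing A'] {X : Scheme.{u}} (s : X ⟶ Spec (CommRingCat.of A))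
    (j : Spec (CommRingCat.of A') ⟶ X) (ψ : A →+* A') (hψ : Spec.map (CommRingCat.ofHom ψ) = j ≫ s)
    (p : (Spec (CommRingCat.of A')).toLocallyRingedSpace) (a : A) :
    j.toLRSHom.stalkMap p (toS s (j.base p) a) =
      (HensSch.specLRS A').presheaf.germ ⊤ p trivial ((Scheme.ΓSpecIso (CommRingCat.of A')).inv (ψ a)) := by
  refine (Scheme.Hom.germ_stalkMap_apply j ⊤ p trivial (Coh.toGlobal s a)).trans ?_
  refine congrArg (fun t => (Spec (CommRingCat.of A')).presheaf.germ ⊤ p trivial t) ?_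
  refine Eq.trans ?_ (congrArg (fun f => f.hom a) (Scheme.ΓSpecIso_inv_naturality (CommRingCat.ofHom ψ))).symm
  show (j ≫ s).appTop ((Scheme.ΓSpecIso (CommRingCat.of A)).inv a) = _
  exact hψ ▸ rfl

theorem isHenzAt_comp_open {A' : Type u} [CommRing A'] {X : Scheme.{u}} (s : X ⟶ Spec (CommRingCat.of A))
    (I : Ideal A) (j : Spec (CommRingCat.of A') ⟶ X) [IsOpenImmersion j] {V : LocallyRingedSpace.{u}}
    (π : V ⟶ HensSch.specLRS A')
    (hV : HensSch.IsSph A' (PrimeSpectrum.vanishingIdeal (j.base ⁻¹' (s.base ⁻¹' PrimeSpectrum.zeroLocus (I : Set A)))) V π)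
    (w : V) : IsHenzAt s I (π ≫ j.toLRSHom) w := by
  obtain ⟨ψ, hψ⟩ : ∃ ψ : A →+* A', Spec.map (CommRingCat.ofHom ψ) = j ≫ s :=
    ⟨(Spec.preimage (j ≫ s)).hom, Spec.map_preimage _⟩
  rw [vanishingIdeal_preimage s I j ψ hψ] at hV
  letI alg₀ := (π.stalkMap w).hom.toAlgebra
  have hrad : (((I.map ψ).radical).map (germA π w)).radical = (I.map ((germA π w).comp ψ)).radical := by
    rw [radical_map_radical, Ideal.map_map]
  have h0 := isPairHenselization_of_radical_eq hrad (isPairHenselization_stalk w hV)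
  haveI : LocallyRingedSpace.IsOpenImmersion j.toLRSHom := (inferInstance : IsOpenImmersion j)
  haveI : IsIso (j.toLRSHom.stalkMap (π.base w)) :=
    PresheafedSpace.IsOpenImmersion.stalk_iso j.toLRSHom.toHom (π.base w)
  let e : ((HensSch.specLRS A').presheaf.stalk (π.base w) : Type u) ≃+*
      (X.toLocallyRingedSpace.presheaf.stalk ((π ≫ j.toLRSHom).base w) : Type u) :=
    (asIso (j.toLRSHom.stalkMap (π.base w))).symm.commRingCatIsoToRingEquiv
  have he : ∀ z, j.toLRSHom.stalkMap (π.base w) (e z) = z := fun z =>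
    congrArg (fun f => f.hom z) (IsIso.inv_hom_id (j.toLRSHom.stalkMap (π.base w)))
  have hst : (π ≫ j.toLRSHom).stalkMap w = j.toLRSHom.stalkMap (π.base w) ≫ π.stalkMap w :=
    LocallyRingedSpace.stalkMap_comp π j.toLRSHom w
  unfold IsHenzAt
  letI alg₁ : Algebra (X.presheaf.stalk ((π ≫ j.toLRSHom).base w) : Type u) (V.presheaf.stalk w : Type u) :=
    ((π ≫ j.toLRSHom).stalkMap w).hom.toAlgebra
  refine isPairHenselization_of_ringEquiv e (RingEquiv.refl _) (fun z => ?_) ?_ h0
  · show π.stalkMap w z = (π ≫ j.toLRSHom).stalkMap w (e z)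
    rw [hst]
    exact (congrArg (fun t => π.stalkMap w t) (he z)).symm
  · rw [Ideal.map_map]
    refine congrArg (fun f => Ideal.map f I) (RingHom.ext fun a => e.symm.injective ?_)
    refine (e.symm_apply_apply _).trans ?_
    exact (stalkMap_toS s j ψ hψ (π.base w) a).symm

theorem isHenzAt_congr {X : Scheme.{u}} (s : X ⟶ Spec (CommRingCat.of A)) (I : Ideal A) {V : LocallyRingedSpace.{u}}
    {g₁ g₂ : V ⟶ X.toLocallyRingedSpace} (h : g₁ = g₂) {w : V} (hg : IsHenzAt s I g₁ w) : IsHenzAt s I g₂ w := by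
  subst h; exact hg

theorem isHenzAt_of_openImmersion_comp {X : Scheme.{u}} (s : X ⟶ Spec (CommRingCat.of A)) (I : Ideal A)
    {V Z : LocallyRingedSpace.{u}} (v : V ⟶ Z) [LocallyRingedSpace.IsOpenImmersion v]
    (g : Z ⟶ X.toLocallyRingedSpace) (w : V) (h : IsHenzAt s I (v ≫ g) w) : IsHenzAt s I g (v.base w) := by
  haveI : IsIso (v.stalkMap w) := PresheafedSpace.IsOpenImmersion.stalk_iso v.toHom w
  let e : (V.presheaf.stalk w : Type u) ≃+* (Z.presheaf.stalk (v.base w) : Type u) :=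
    (asIso (v.stalkMap w)).symm.commRingCatIsoToRingEquiv
  unfold IsHenzAt at h ⊢
  letI alg₁ : Algebra (X.presheaf.stalk (g.base (v.base w)) : Type u) (V.presheaf.stalk w : Type u) :=
    ((v ≫ g).stalkMap w).hom.toAlgebra
  letI alg₂ : Algebra (X.presheaf.stalk (g.base (v.base w)) : Type u) (Z.presheaf.stalk (v.base w) : Type u) :=
    (g.stalkMap (v.base w)).hom.toAlgebra
  refine isPairHenselization_of_ringEquiv (RingEquiv.refl _) e (fun z => ?_) ?_ h
  · show inv (v.stalkMap w) ((v ≫ g).stalkMap w z) = g.stalkMap (v.base w) z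
    rw [LocallyRingedSpace.stalkMap_comp]
    exact congrArg (fun f => f.hom (g.stalkMap (v.base w) z)) (IsIso.hom_inv_id (v.stalkMap w))
  · exact Ideal.map_id _

theorem isHenzAt_henselization {X : Scheme.{u}} (s : X ⟶ Spec (CommRingCat.of A)) (I : Ideal A)
    {Xh : LocallyRingedSpace.{u}} {ι : Xh ⟶ X.toLocallyRingedSpace}
    (hh : HensSch.IsHenselizationAlong X (s.base ⁻¹' PrimeSpectrum.zeroLocus (I : Set A)) Xh ι) (x : Xh) :
    IsHenzAt s I ι x := by
  obtain ⟨A', _, j, hj, hxj, V, v, hv, π, hr, hc, hV⟩ := hh.2.2.2 (ι.base x) (hh.2.2.1.le ⟨x, rfl⟩)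
  obtain ⟨w, rfl⟩ : x ∈ Set.range v.base := hr.ge hxj
  exact isHenzAt_of_openImmersion_comp s I v ι w (isHenzAt_congr s I hc.symm (isHenzAt_comp_open s I j π hV w))

theorem le_maximalIdeal {X : Scheme.{u}} (s : X ⟶ Spec (CommRingCat.of A)) (I : Ideal A) (y : X)
    (hy : y ∈ s.base ⁻¹' PrimeSpectrum.zeroLocus (I : Set A)) :
    I.map (toS s y) ≤ IsLocalRing.maximalIdeal (X.presheaf.stalk y : Type u) := by
  refine Ideal.map_le_iff_le_comap.mpr fun a ha => (IsLocalRing.mem_maximalIdeal _).mpr fun hu => ?_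
  have h1 : toS s y a = s.stalkMap y ((Spec (CommRingCat.of A)).presheaf.germ ⊤ (s.base y) trivial
      ((Scheme.ΓSpecIso (CommRingCat.of A)).inv a)) := by
    rw [Scheme.Hom.germ_stalkMap_apply]; rfl
  rw [h1] at hu
  have h2 := (isUnit_map_iff (s.stalkMap y).hom _).mp hu
  have h3 : s.base y ∈ (PrimeSpectrum.basicOpen a : Opens _) := by
    have h := SetLike.ext_iff.mp (AlgebraicGeometry.basicOpen_eq_of_affine (R := CommRingCat.of A) a) (s.base y)
    exact h.mp ((Scheme.mem_basicOpen_top (Spec (CommRingCat.of A)) _ _).mpr h2)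
  exact h3 ((PrimeSpectrum.mem_zeroLocus _ _).mp hy ha)

end Groth.Agent.HensSch7
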