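import Groth.Agent.HensSch7.PullStalk
import Groth.Agent.HensSch7.StalkHenzIota
import Groth.Prelude.Def_Formal

/-! The unit of inverse images is bijective on modules killed by a power of the ideal. -/

set_option autoImplicit false
set_option linter.style.haveILetI false
set_option backward.isDefEq.respectTransparency false
set_option backward.isDefEq.respectTransparency.types false
universe u

open CategoryTheory CategoryTheory.Limits Opposite TopologicalSpace AlgebraicGeometry
open scoped TensorProduct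

namespace Groth.Agent.HensSch7

theorem bijective_tmul_of_bijective_quotientMap {S T N : Type u} [CommRing S] [CommRing T] [Algebra S T]
    [AddCommGroup N] [Module S N] (J : Ideal S) (hJ : ∀ a ∈ J, ∀ n : N, a • n = 0)
    (hb : Function.Bijective (Ideal.quotientMap (J.map (algebraMap S T)) (algebraMap S T) Ideal.le_comap_map)) :
    Function.Bijective (fun n : N => (1 : T) ⊗ₜ[S] n) := by
  let e : S ⧸ J ≃+* T ⧸ J.map (algebraMap S T) := RingEquiv.ofBijective _ hb
  let φ : T →+* S ⧸ J := (e.symm : T ⧸ J.map (algebraMap S T) →+* S ⧸ J).comp (Ideal.Quotient.mk _)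
  have hφ : ∀ a, φ (algebraMap S T a) = Ideal.Quotient.mk J a := fun a => by
    show e.symm (Ideal.Quotient.mk _ (algebraMap S T a)) = _
    rw [RingEquiv.symm_apply_eq]
    exact (Ideal.quotientMap_mk (H := Ideal.le_comap_map)).symm
  have htor : Module.IsTorsionBySet S N (J : Set S) := fun n a => hJ a a.2 n
  letI : Module (S ⧸ J) N := htor.module
  have hmk : ∀ (a : S) (n : N), Ideal.Quotient.mk J a • n = a • n := fun a n => Module.IsTorsionBySet.mk_smul htor a n
  let g : T ⊗[S] N →ₗ[S] N := TensorProduct.lift (LinearMap.mk₂ S (fun t n => φ t • n)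
    (fun t₁ t₂ n => by rw [map_add, add_smul])
    (fun a t n => by rw [Algebra.smul_def, map_mul, hφ, mul_smul, hmk])
    (fun t n₁ n₂ => smul_add _ _ _)
    (fun a t n => by rw [← hmk a n, ← mul_smul, mul_comm, mul_smul, hmk]))
  have hg : ∀ n : N, g ((1 : T) ⊗ₜ[S] n) = n := fun n => by
    show φ 1 • n = n
    rw [map_one, one_smul]
  refine ⟨fun a b h => by rw [← hg a, ← hg b]; exact congrArg g h, fun w => ⟨g w, ?_⟩⟩
  induction w using TensorProduct.induction_on with
  | zero => simp
  | tmul t n =>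
    obtain ⟨a, ha⟩ := Ideal.Quotient.mk_surjective (φ t)
    show (1 : T) ⊗ₜ[S] (φ t • n) = t ⊗ₜ[S] n
    rw [← ha, hmk, ← TensorProduct.smul_tmul, Algebra.smul_def, mul_one]
    have hd : algebraMap S T a - t ∈ J.map (algebraMap S T) := by
      have h1 : e.symm (Ideal.Quotient.mk _ t) = Ideal.Quotient.mk J a := ha.symm
      rw [RingEquiv.symm_apply_eq] at h1
      exact Ideal.Quotient.eq.mp ((h1.trans (Ideal.quotientMap_mk (H := Ideal.le_comap_map))).symm)
    rw [← sub_eq_zero, ← TensorProduct.sub_tmul]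
    generalize algebraMap S T a - t = z at hd ⊢
    induction hd using Submodule.span_induction with
    | mem z hz =>
      obtain ⟨b, hb', rfl⟩ := hz
      rw [Algebra.algebraMap_eq_smul_one, TensorProduct.smul_tmul, hJ b hb' n, TensorProduct.tmul_zero]
    | zero => exact TensorProduct.zero_tmul _ _
    | add z z' _ _ h h' => rw [TensorProduct.add_tmul, h, h', add_zero]
    | smul c z _ h => rw [← TensorProduct.smul_tmul', h, smul_zero]
  | add a b ha hb =>
    show (1 : T) ⊗ₜ[S] g (a + b) = a + b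
    rw [map_add, TensorProduct.tmul_add]
    exact congrArg₂ (· + ·) ha hb

variable {A : Type u} [CommRing A] {X : Scheme.{u}} [X.Over (Spec (CommRingCat.of A))]

theorem germ_smulMod (N : X.Modules) (a : A) (U : X.Opens) (y : X) (hy : y ∈ U) (m : Γ(N, U)) :
    N.presheaf.germ U y hy (Scheme.Modules.Hom.app (Formal.smulMod A N a) U m) =
      toS (X ↘ Spec (CommRingCat.of A)) y a • N.presheaf.germ U y hy m := by
  refine (QCoh.germ_smul' N hy (Coh.resTop X (op U) (Coh.toGlobal (X ↘ Spec (CommRingCat.of A)) a)) m).trans ?_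
  refine congrArg (· • N.presheaf.germ U y hy m) ?_
  exact X.presheaf.germ_res_apply (homOfLE (le_top (a := U))) y hy _

theorem smul_eq_zero_of_killedBy {J : Ideal A} {N : X.Modules} (hN : Formal.KilledBy J N) (y : X)
    (a : (X.presheaf.stalk y : Type u)) (ha : a ∈ J.map (toS (X ↘ Spec (CommRingCat.of A)) y))
    (n : (N.presheaf.stalk y : Type u)) : a • n = 0 := by
  induction ha using Submodule.span_induction with
  | mem z hz =>
    obtain ⟨b, hb, rfl⟩ := hz
    obtain ⟨U, hy, m, rfl⟩ := TopCat.Presheaf.exists_germ_eq N.presheaf n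
    rw [← germ_smulMod N b U y hy m, hN b hb]
    exact map_zero _
  | zero => exact zero_smul _ n
  | add z z' _ _ h h' => rw [add_smul, h, h', add_zero]
  | smul c z _ h => rw [smul_eq_mul, mul_smul, h, smul_zero]

variable {I : Ideal A} {Xh : LocallyRingedSpace.{u}} {ι : Xh ⟶ X.toLocallyRingedSpace}

theorem subsingleton_stalk_of_killedBy {n : ℕ} {N : X.Modules} (hN : Formal.KilledBy (I ^ n) N) {y : X}
    (hy : y ∉ (X ↘ Spec (CommRingCat.of A)).base ⁻¹' PrimeSpectrum.zeroLocus (I : Set A)) :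
    Subsingleton (N.presheaf.stalk y : Type u) := by
  obtain ⟨a, ha, hna⟩ := Set.not_subset.mp (fun h => hy ((PrimeSpectrum.mem_zeroLocus _ _).mpr h))
  have hu : IsUnit (toS (X ↘ Spec (CommRingCat.of A)) y a) := by
    let s := X ↘ Spec (CommRingCat.of A)
    have h1 : toS s y a = s.stalkMap y ((Spec (CommRingCat.of A)).presheaf.germ ⊤ (s.base y) trivial
        ((Scheme.ΓSpecIso (CommRingCat.of A)).inv a)) := by
      rw [Scheme.Hom.germ_stalkMap_apply]; rfl
    show IsUnit (toS s y a)
    rw [h1]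
    refine IsUnit.map _ ((Scheme.mem_basicOpen_top (Spec (CommRingCat.of A)) _ _).mp ?_)
    exact (SetLike.ext_iff.mp (AlgebraicGeometry.basicOpen_eq_of_affine (R := CommRingCat.of A) a) (s.base y)).mpr hna
  refine ⟨fun p q => ?_⟩
  have h0 : ∀ p : (N.presheaf.stalk y : Type u), p = 0 := fun p => (hu.pow n).smul_eq_zero.mp
    (smul_eq_zero_of_killedBy hN y _ (by rw [← map_pow]; exact Ideal.mem_map_of_mem _ (Ideal.pow_mem_pow ha n)) p)
  rw [h0 p, h0 q]

variable (hh : HensSch.IsHenselizationAlong X ((X ↘ Spec (CommRingCat.of A)).base ⁻¹' PrimeSpectrum.zeroLocus (I : Set A)) Xh ι)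

include hh

theorem bijective_etaX {n : ℕ} {N : X.Modules} (hN : Formal.KilledBy (I ^ n) N) (x : Xh) :
    Function.Bijective (etaX ι N x) := by
  letI := stAlg ι x
  have hP : Hens2.IsPairHenselization (SS ι x) (I.map (toS (X ↘ Spec (CommRingCat.of A)) (ι.base x))) (TT Xh x) :=
    isHenzAt_henselization _ I hh x
  have hb := Hensel.bijective_quotientMap_pow_of_isPairHenselization _ hP n
  have h1 := bijective_tmul_of_bijective_quotientMap (T := TT Xh x) (N := FF ι N x)
    ((I.map (toS (X ↘ Spec (CommRingCat.of A)) (ι.base x))) ^ n)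
    (fun a ha m => smul_eq_zero_of_killedBy hN _ a (by rw [Ideal.map_pow]; exact ha) m) hb
  have h2 : Function.Bijective (phi ι N x) := ⟨injective_phi ι N x, surjective_phi ι N x⟩
  have h3 : ⇑(etaX ι N x) = ⇑(phi ι N x) ∘ fun m : FF ι N x => (1 : TT Xh x) ⊗ₜ[SS ι x] m :=
    funext fun m => ((phi_tmul ι N x 1 m).trans (one_smul _ _)).symm
  rw [h3]
  exact h2.comp h1

theorem injective_eta {n : ℕ} {N : X.Modules} (hN : Formal.KilledBy (I ^ n) N) (U : X.Opens) :
    Function.Injective (eta ι N U) := by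
  refine (injective_iff_map_eq_zero _).mpr fun g hg => ?_
  refine TopCat.Presheaf.section_ext (⟨N.presheaf, N.isSheaf⟩ : TopCat.Sheaf AddCommGrpCat.{u} X) U g 0 fun y hy => ?_
  by_cases hY : y ∈ Set.range ι.base
  · obtain ⟨x, rfl⟩ := hY
    refine (bijective_etaX hh hN x).1 ?_
    show etaX ι N x (N.presheaf.germ U (ι.base x) hy g) = etaX ι N x (N.presheaf.germ U (ι.base x) hy 0)
    rw [etaX_germ, etaX_germ, hg, map_zero, map_zero, map_zero]
  · haveI := subsingleton_stalk_of_killedBy hN (fun h => hY (hh.2.2.1.ge h))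
    exact Subsingleton.elim (α := (N.presheaf.stalk y : Type u)) _ _

theorem bijective_eta {n : ℕ} {N : X.Modules} (hN : Formal.KilledBy (I ^ n) N) (U : X.Opens) :
    Function.Bijective (eta ι N U) := by
  refine ⟨injective_eta hh hN U, ?_⟩
  let P := (HensSch.pushMod ι).obj (pl ι N)
  let f : (⟨N.presheaf, N.isSheaf⟩ : TopCat.Sheaf AddCommGrpCat.{u} X) ⟶ ⟨P.val.presheaf, P.isSheaf⟩ :=
    ⟨(PresheafOfModules.toPresheaf _).map ((HensSch.pullPushAdj ι).unit.app N).val⟩
  refine TopCat.Presheaf.app_surjective_of_injective_of_locally_surjective f U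
    (fun y _ => TopCat.Presheaf.stalkFunctor_map_injective_of_app_injective (f := f.hom) (injective_eta hh hN) y)
    fun t y hy => ?_
  by_cases hY : y ∈ Set.range ι.base
  · obtain ⟨x, rfl⟩ := hY
    let m : MSec (pl ι N) ((Opens.map ι.base).obj U) := t
    obtain ⟨g₀, hg₀⟩ := (bijective_etaX hh hN x).2 (mgerm (pl ι N) x hy m)
    obtain ⟨U', hyU', g, rfl⟩ := TopCat.Presheaf.exists_germ_eq N.presheaf g₀
    let U₂ : X.Opens := U' ⊓ U
    have hx : x ∈ (Opens.map ι.base).obj U₂ := ⟨hyU', hy⟩
    let g₂ : Γ(N, U₂) := N.presheaf.map (homOfLE (inf_le_left : U₂ ≤ U')).op g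
    have he : mgerm (pl ι N) x hx (eta ι N U₂ g₂) =
        mgerm (pl ι N) x hx (mres (pl ι N) ((Opens.map ι.base).map (homOfLE (inf_le_right : U₂ ≤ U))).le m) := by
      rw [mgerm_mres, eta_map, mgerm_mres, ← etaX_germ]
      exact hg₀
    obtain ⟨W, hW, hxW, hWe⟩ := exists_mres_eq he
    obtain ⟨W', hW', hWW'⟩ := hh.2.1.isInducing.isOpen_iff.mp W.2
    let U₃ : X.Opens := ⟨W', hW'⟩ ⊓ U₂
    have hle : (Opens.map ι.base).obj U₃ ≤ W := fun z hz => hWW'.subset hz.1
    refine ⟨U₃, ⟨hWW'.symm.subset hxW, hyU', hy⟩, homOfLE (inf_le_right.trans inf_le_right),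
      N.presheaf.map (homOfLE (inf_le_right : U₃ ≤ U₂)).op g₂, ?_⟩
    show eta ι N U₃ (N.presheaf.map (homOfLE (inf_le_right : U₃ ≤ U₂)).op g₂) =
      mres (pl ι N) ((Opens.map ι.base).map (homOfLE (inf_le_right.trans inf_le_right : U₃ ≤ U))).le m
    rw [eta_map]
    refine msection_ext _ _ _ fun z hz => ?_
    rw [mgerm_mres, mgerm_mres]
    have h5 := congrArg (mgerm (pl ι N) z (hle hz)) hWe
    simp only [mgerm_mres] at h5
    exact h5.trans (mgerm_mres (pl ι N) _ z _ m)
  · let U₃ : X.Opens := U ⊓ ⟨(Set.range ι.base)ᶜ, (hh.2.2.1 ▸ hh.1 : IsClosed (Set.range ι.base)).isOpen_compl⟩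
    refine ⟨U₃, ⟨hy, hY⟩, homOfLE inf_le_left, (0 : Γ(N, U₃)), ?_⟩
    show eta ι N U₃ 0 = mres (pl ι N) ((Opens.map ι.base).map (homOfLE (inf_le_left : U₃ ≤ U))).le t
    exact msection_ext _ _ _ fun z hz => absurd ⟨z, rfl⟩ hz.2

theorem isIso_unit {n : ℕ} {N : X.Modules} (hN : Formal.KilledBy (I ^ n) N) :
    IsIso ((HensSch.pullPushAdj ι).unit.app N) := by
  haveI : IsIso ((SheafOfModules.forget _).map ((HensSch.pullPushAdj ι).unit.app N)) := by
    show IsIso ((HensSch.pullPushAdj ι).unit.app N).val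
    haveI : ∀ U, IsIso (((PresheafOfModules.toPresheaf _).map ((HensSch.pullPushAdj ι).unit.app N).val).app U) := by
      intro U
      exact (ConcreteCategory.isIso_iff_bijective _).mpr (bijective_eta hh hN U.unop)
    haveI : IsIso ((PresheafOfModules.toPresheaf _).map ((HensSch.pullPushAdj ι).unit.app N).val) :=
      NatIso.isIso_of_isIso_app _
    exact isIso_of_reflects_iso _ (PresheafOfModules.toPresheaf _)
  exact isIso_of_fully_faithful (SheafOfModules.forget _) _

end Groth.Agent.HensSch7
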